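import Cfsg.Agent.H70.CSy.Model

/-!
# Interface: consequences of the local analysis in the torus case
-/

set_option autoImplicit false

open Cfsg Subgroup

namespace H70.CSy

universe u

/-- Facts proved about the elements of prime order in the torus `W`. -/
structure WFacts {G : Type u} [Group G] [Finite G] (D : Setup G) (M : Model D) : Prop where
  O_bot : D.O = ⊥
  T_three : 3 ∣ M.T
  card_cd : ∀ d ∈ M.W, (orderOf d).Prime →
    Nat.card (centralizer ({d} : Set G)) = 12 * M.T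
  no_eight : ∀ d ∈ M.W, (orderOf d).Prime →
    ∀ g ∈ normalizer (zpowers d : Set G), orderOf g ≠ 2 ^ D.n

/-- The last fields of `SDTorus`. -/
def LateStmt : Prop :=
  ∀ (G : Type u) [Group G] [Finite G] (D : Setup G) (M : Model D), WFacts D M →
    (∀ u : G, (∃ k : ℕ, 2 ≤ k ∧ orderOf u = 2 ^ k) →
      ¬ 3 ∣ Nat.card (centralizer ({u} : Set G))) ∧
    (∀ q : ℕ, q.Prime → q ≠ 2 → q ≠ 3 → q ∣ M.r * (M.r ^ 2 - 1) →
      (Nat.card G).factorization q =
        (Nat.card (centralizer ({D.t} : Set G))).factorization q) ∧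
    (∃ m M' : ℕ, Nat.card G = Nat.card (centralizer ({D.t} : Set G)) * m ∧
      m % M.r = M' % M.r ∧ M' ∣ m ∧
      ∀ q : ℕ, q.Prime → q ∣ M' →
        ¬ q ∣ Nat.card (centralizer ({D.t} : Set G)) ∧ 2 * (M.r - 1) ∣ q - 1) ∧
    (∀ g : G, ∀ q : ℕ, q.Prime → ¬ q ∣ Nat.card (centralizer ({D.t} : Set G)) →
      ¬ 2 * (M.r - 1) ∣ q - 1 → q ∣ orderOf g →
      (orderOf g).Coprime (Nat.card (centralizer ({D.t} : Set G))))

end H70.CSy
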