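import Cfsg.Agent.H70.CSy.Local

/-!
# Centralisers and normalisers of elements of prime order of the torus
-/

set_option autoImplicit false

open Cfsg Subgroup

namespace H70.CSy

universe u

variable {G : Type u} [Group G] [Finite G] {D : Setup G} (M : Model D)

theorem U_pgroup : IsPGroup 2 (U D) := IsPGroup.of_card (n := 2) (by rw [card_U]; norm_num)

theorem U_le_cd {d : G} (hd : d ∈ M.W) : U D ≤ centralizer ({d} : Set G) := fun _ hu =>
  mem_centralizer_singleton_iff.mpr (commute_U_W M hu hd).eq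

theorem s_mem_norm {d : G} (hd : d ∈ M.W) :
    D.s ∈ normalizer (zpowers d : Set G) := by
  have h : D.s * d * D.s⁻¹ = d⁻¹ := M.W_inv d hd
  rw [mem_normalizer_iff]
  intro e
  constructor
  · intro he
    obtain ⟨k, rfl⟩ := mem_zpowers_iff.mp he
    rw [← conj_zpow, h]
    exact zpow_mem (inv_mem (mem_zpowers d)) k
  · intro he
    obtain ⟨k, hk⟩ := mem_zpowers_iff.mp he
    have h' : D.s⁻¹ * d * D.s = d⁻¹ := by
      have := congrArg (fun g => D.s⁻¹ * g⁻¹ * D.s) h
      simp only [mul_inv_rev, inv_inv] at this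
      rw [← this]
      group
    have : e = (D.s⁻¹ * d * D.s) ^ k := by
      rw [show D.s⁻¹ * d * D.s = D.s⁻¹ * d * D.s⁻¹⁻¹ by rw [inv_inv], conj_zpow, hk]
      group
    rw [this, h']
    exact zpow_mem (inv_mem (mem_zpowers d)) k

theorem two_part_le {d : G} (hd : d ∈ M.W) (hd1 : d ≠ 1) {Q : Subgroup G} (hQ : IsPGroup 2 Q)
    (hQle : Q ≤ centralizer ({D.t, d} : Set G)) : Nat.card Q ≤ 4 := by
  have : Fact (Nat.Prime 2) := ⟨Nat.prime_two⟩
  obtain ⟨j, hj⟩ := IsPGroup.iff_card.mp hQ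
  have h := card_dvd_of_le hQle
  rw [M.cent_W d hd hd1, hj, show 4 * M.T * Nat.card D.O = 4 * (M.T * Nat.card D.O) by ring] at h
  have hco : (2 ^ j).Coprime (M.T * Nat.card D.O) :=
    Nat.Coprime.pow_left _ (M.T_odd.mul D.O_odd).coprime_two_left
  rw [hj]
  exact Nat.le_of_dvd (by norm_num) (hco.dvd_of_dvd_mul_right h)

/-- `U` is a Sylow `2`-subgroup of `C(d)`. -/
theorem two_sub_cd {d : G} (hd : d ∈ M.W) (hd1 : d ≠ 1) {Q : Subgroup G} (hQ : IsPGroup 2 Q)
    (hU : U D ≤ Q) (hQd : Q ≤ centralizer ({d} : Set G)) : Q = U D := by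
  have : Fact (Nat.Prime 2) := ⟨Nat.prime_two⟩
  refine (eq_of_le_of_card_ge hU ?_).symm
  rw [card_U]
  have hne : Nontrivial Q := (nontrivial_iff_ne_bot Q).mpr fun h => by
    have := card_dvd_of_le hU
    rw [h, card_U, card_bot] at this
    norm_num at this
  have := hQ.center_nontrivial
  obtain ⟨z, hz⟩ := exists_prime_orderOf_dvd_card' (G := center ↥Q) 2
    ((hQ.to_subgroup _).exists_card_eq.elim fun k hk => by
      rw [hk]
      rcases k with _ | k
      · rw [pow_zero] at hk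
        have := (Nat.card_eq_one_iff_unique.mp hk).1
        exact absurd this (not_subsingleton_iff_nontrivial.mpr inferInstance)
      · exact dvd_pow_self 2 (Nat.succ_ne_zero k))
  rw [← Subgroup.orderOf_coe, ← Subgroup.orderOf_coe] at hz
  set v : G := ((z : ↥Q) : G) with hv
  have hvc : ∀ q ∈ Q, Commute q v := fun q hq =>
    congrArg Subtype.val (mem_center_iff.mp z.2 ⟨q, hq⟩)
  by_cases hvU : v ∈ U D
  · -- conjugate `v` to `t` inside `C(d)`
    obtain ⟨h, h1, h2, h3, hW, -⟩ := exists_h M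
    obtain ⟨m, hmd, hmt⟩ : ∃ m : G, Commute m d ∧ m * v * m⁻¹ = D.t := by
      rcases hvU with hv1 | hv1 | hv1 | hv1
      · rw [hv1, orderOf_one] at hz; omega
      · exact ⟨1, Commute.one_left d, by rw [hv1]; simp⟩
      · exact ⟨h, hW d hd, by rw [hv1, h3]⟩
      · refine ⟨h * h, (show Commute h d from hW d hd).mul_left (hW d hd), ?_⟩
        rw [hv1, show h * h * (D.t * (D.y : G)) * (h * h)⁻¹ = h * (h * (D.t * (D.y : G)) * h⁻¹) * h⁻¹ by group,
          h2, h3]
    have hle : Q.map (MulAut.conj m).toMonoidHom ≤ centralizer ({D.t, d} : Set G) := by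
      rintro _ ⟨q, hq, rfl⟩
      rw [mem_centralizer_iff]
      rintro g (rfl | rfl)
      · show D.t * (m * q * m⁻¹) = m * q * m⁻¹ * D.t
        rw [← hmt]
        calc m * v * m⁻¹ * (m * q * m⁻¹) = m * (v * q) * m⁻¹ := by group
          _ = m * (q * v) * m⁻¹ := by rw [(hvc q hq).eq]
          _ = m * q * m⁻¹ * (m * v * m⁻¹) := by group
      · show g * (m * q * m⁻¹) = m * q * m⁻¹ * g
        exact (((hmd.mul_left (mem_centralizer_singleton_iff.mp (hQd hq))).mul_left hmd.inv_left).symm).eq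
    have h4 := two_part_le M hd hd1 (hQ.map _) hle
    rwa [card_map_of_injective (MulAut.conj m).injective] at h4
  · exfalso
    have hle : U D ⊔ zpowers v ≤ centralizer ({D.t, d} : Set G) := by
      refine sup_le (fun u hu => ?_) (zpowers_le.mpr ?_)
      · rw [mem_centralizer_iff]
        rintro g (rfl | rfl)
        · exact mem_centralizer_iff.mp (U_le_cty (D := D) hu) _ (Set.mem_insert _ _)
        · exact (commute_U_W M hu hd).eq.symm
      · rw [mem_centralizer_iff]
        rintro g (rfl | rfl)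
        · exact (hvc _ (hU (t_mem_U D))).eq
        · exact (mem_centralizer_singleton_iff.mp (hQd (z : ↥Q).2)).symm
    have hp : IsPGroup 2 ↥(U D ⊔ zpowers v) :=
      hQ.to_le (sup_le hU (zpowers_le.mpr (z : ↥Q).2))
    have h4 := two_part_le M hd hd1 hp hle
    have h5 : U D = U D ⊔ zpowers v := eq_of_le_of_card_ge le_sup_left (card_U D ▸ h4)
    exact hvU (h5 ▸ le_sup_right (a := U D) (mem_zpowers v))

/-- Every element normalising `⟨d⟩` lies in `C(d) ∪ C(d)s`; if it also normalises `U`, so does the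
corresponding element. -/
theorem norm_cases {d : G} (hd : d ∈ M.W) (hd1 : d ≠ 1) {g : G}
    (hg : g ∈ normalizer (zpowers d : Set G)) :
    Commute g d ∨ Commute (g * D.s) d := by
  have : Fact (Nat.Prime 2) := ⟨Nat.prime_two⟩
  set E := centralizer ({d} : Set G) with hE
  have hUE := U_le_cd M hd
  obtain ⟨P, hP⟩ := ((U_pgroup (D := D)).of_equiv (subgroupOfEquivOfLe hUE).symm).exists_le_sylow
  have hPU : (P : Subgroup ↥E).map E.subtype = U D := by
    refine two_sub_cd M hd hd1 (P.2.map _) ?_ (map_subtype_le _)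
    intro u hu
    exact ⟨⟨u, hUE hu⟩, hP hu, rfl⟩
  -- the conjugate of `U` by `g` is a Sylow subgroup of `C(d)`
  have hconjE : ∀ e ∈ E, g * e * g⁻¹ ∈ E := by
    intro e he
    obtain ⟨k, hk⟩ := mem_zpowers_iff.mp
      ((mem_normalizer_iff.mp ((normalizer (zpowers d : Set G)).inv_mem hg) d).mp (mem_zpowers d))
    rw [inv_inv] at hk
    have hc1 : Commute e (g⁻¹ * d * g) := hk ▸ Commute.zpow_right (mem_centralizer_singleton_iff.mp he) k
    rw [hE, mem_centralizer_singleton_iff]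
    calc g * e * g⁻¹ * d = g * (e * (g⁻¹ * d * g)) * g⁻¹ := by group
      _ = g * ((g⁻¹ * d * g) * e) * g⁻¹ := by rw [hc1.eq]
      _ = d * (g * e * g⁻¹) := by group
  set U' := (U D).map (MulAut.conj g).toMonoidHom with hU'
  have hU'E : U' ≤ E := by
    rintro _ ⟨u, hu, rfl⟩
    exact hconjE u (hUE hu)
  obtain ⟨k, hkE, hk⟩ : ∃ k ∈ E, ∀ u ∈ U', k * u * k⁻¹ ∈ U D := by
    obtain ⟨R, hR⟩ := (((U_pgroup (D := D)).map (MulAut.conj g).toMonoidHom).of_equiv
      (subgroupOfEquivOfLe hU'E).symm).exists_le_sylow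
    obtain ⟨k, hk⟩ := MulAction.exists_smul_eq ↥E R P
    refine ⟨k, k.2, fun u hu => ?_⟩
    have h1 : (k : ↥E) * ⟨u, hU'E hu⟩ * k⁻¹ ∈ (P : Subgroup ↥E) := hk ▸
      Subgroup.smul_mem_pointwise_smul _ (MulAut.conj k) _ (hR hu)
    rw [← hPU]
    exact ⟨_, h1, rfl⟩
  set m := k * g with hm
  have hmU : ∀ u ∈ U D, m * u * m⁻¹ ∈ U D := by
    intro u hu
    rw [hm, show k * g * u * (k * g)⁻¹ = k * (g * u * g⁻¹) * k⁻¹ by group]
    exact hk _ ⟨u, hu, rfl⟩
  -- reduce to the case where `t` is fixed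
  obtain ⟨h, h1, h2, h3, hW, -⟩ := exists_h M
  obtain ⟨f, hfd, hft, hfU⟩ : ∃ f : G, Commute f d ∧ f * (m * D.t * m⁻¹) * f⁻¹ = D.t ∧
      ∀ u ∈ U D, f * u * f⁻¹ ∈ U D := by
    have hhU : ∀ u ∈ U D, h * u * h⁻¹ ∈ U D := by
      rintro u (rfl | rfl | rfl | rfl)
      · simp [one_mem]
      · rw [h1]; exact mul_mem (t_mem_U D) (y_mem_U D)
      · rw [h3]; exact t_mem_U D
      · rw [h2]; exact y_mem_U D
    rcases hmU _ (t_mem_U D) with e | e | e | e
    · exfalso
      exact D.t_ne_one ((MulAut.conj m).injective (e.trans (map_one (MulAut.conj m)).symm))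
    · exact ⟨1, Commute.one_left d, by rw [e]; simp, fun u hu => by simpa using hu⟩
    · exact ⟨h, hW d hd, by rw [e, h3], hhU⟩
    · refine ⟨h * h, (show Commute h d from hW d hd).mul_left (hW d hd), ?_, fun u hu => ?_⟩
      · rw [e, show h * h * (D.t * (D.y : G)) * (h * h)⁻¹ = h * (h * (D.t * (D.y : G)) * h⁻¹) * h⁻¹ by group,
          h2, h3]
      · rw [show h * h * u * (h * h)⁻¹ = h * (h * u * h⁻¹) * h⁻¹ by group]
        exact hhU _ (hhU _ hu)
  set m' := f * m with hm'
  have hm't : m' * D.t * m'⁻¹ = D.t := by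
    rw [hm', show f * m * D.t * (f * m)⁻¹ = f * (m * D.t * m⁻¹) * f⁻¹ by group, hft]
  have hm'y : m' * (D.y : G) * m'⁻¹ ∈ U D := by
    rw [hm', show f * m * (D.y : G) * (f * m)⁻¹ = f * (m * (D.y : G) * m⁻¹) * f⁻¹ by group]
    exact hfU _ (hmU _ (y_mem_U D))
  -- `m'` or `m' s` centralises `U`
  have key : ∀ z : G, z * D.t * z⁻¹ = D.t → z * (D.y : G) * z⁻¹ = (D.y : G) → Commute z d := by
    intro z h1' h2'
    have hz : z ∈ centralizer ({D.t, (D.y : G)} : Set G) := by
      rw [mem_centralizer_iff]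
      rintro e (rfl | rfl)
      · conv_lhs => rw [← h1']
        group
      · conv_lhs => rw [← h2']
        group
    obtain ⟨u, hu, w, hw, rfl⟩ := cty_decomp M hz
    exact (commute_U_W M hu hd).mul_left (W_comm M hw hd)
  have hback : ∀ e : G, Commute (m' * e) d → Commute (g * e) d := by
    intro e he
    have hk' : Commute k d := mem_centralizer_singleton_iff.mp hkE
    have : g * e = k⁻¹ * (f⁻¹ * (m' * e)) := by
      rw [hm', hm]
      group
    rw [this]
    exact hk'.inv_left.mul_left (hfd.inv_left.mul_left he)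
  rcases hm'y with e | e | e | e
  · exfalso
    exact D.y_ne_one ((MulAut.conj m').injective (e.trans (map_one (MulAut.conj m')).symm))
  · exfalso
    exact D.t_ne_y ((MulAut.conj m').injective (hm't.trans e.symm))
  · left
    simpa using hback 1 (by simpa using key m' hm't e)
  · right
    refine hback _ (key _ ?_ ?_)
    · rw [show m' * D.s * D.t * (m' * D.s)⁻¹ = m' * (D.s * D.t * D.s⁻¹) * m'⁻¹ by group, D.s_t, hm't]
    · rw [show m' * D.s * (D.y : G) * (m' * D.s)⁻¹ = m' * (D.s * (D.y : G) * D.s⁻¹) * m'⁻¹ by group,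
        D.s_y, show m' * (D.t * (D.y : G)) * m'⁻¹ = (m' * D.t * m'⁻¹) * (m' * (D.y : G) * m'⁻¹) by group,
        hm't, e, ← mul_assoc, D.t_sq, one_mul]

/-- A `2`-element of `C(d)` has order at most two. -/
theorem two_elt_cd {d : G} (hd : d ∈ M.W) (hd1 : d ≠ 1) {g : G} (hg : Commute g d)
    {j : ℕ} (hj : orderOf g = 2 ^ j) : g * g = 1 := by
  have : Fact (Nat.Prime 2) := ⟨Nat.prime_two⟩
  set E := centralizer ({d} : Set G) with hE
  have hgE : g ∈ E := mem_centralizer_singleton_iff.mpr hg.eq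
  have hUE := U_le_cd M hd
  obtain ⟨P, hP⟩ := ((U_pgroup (D := D)).of_equiv (subgroupOfEquivOfLe hUE).symm).exists_le_sylow
  have hPU : (P : Subgroup ↥E).map E.subtype = U D := by
    refine two_sub_cd M hd hd1 (P.2.map _) ?_ (map_subtype_le _)
    intro u hu
    exact ⟨⟨u, hUE hu⟩, hP hu, rfl⟩
  have hp : IsPGroup 2 (zpowers (⟨g, hgE⟩ : ↥E)) :=
    IsPGroup.of_card (n := j) (by rw [Nat.card_zpowers, Subgroup.orderOf_mk, hj])
  obtain ⟨a, -, ha⟩ := H67.conj_into_sylow P ⊤ _ le_top hp le_top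
  have hmem : (a : G) * g * (a : G)⁻¹ ∈ U D := by
    rw [← hPU]
    exact ⟨_, ha _ (mem_zpowers _), rfl⟩
  have h2 := U_exp D hmem
  calc g * g = (a : G)⁻¹ * ((a : G) * g * (a : G)⁻¹ * ((a : G) * g * (a : G)⁻¹)) * a := by group
    _ = 1 := by rw [h2]; group

/-- No element of order `2 ^ n` normalises `⟨d⟩`. -/
theorem no_eight {d : G} (hd : d ∈ M.W) (hd1 : d ≠ 1) :
    ∀ g ∈ normalizer (zpowers d : Set G), orderOf g ≠ 2 ^ D.n := by
  intro g hg hord
  have hn := D.qd.three_le
  have hc : Commute (g * g) d := by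
    rcases norm_cases M hd hd1 hg with h | h
    · exact h.mul_left h
    · have hi : g * d * g⁻¹ = d⁻¹ := by
        have e1 : g * D.s * d * (g * D.s)⁻¹ = d := by rw [h.eq, mul_inv_cancel_right]
        have e2 : g * D.s * d * (g * D.s)⁻¹ = (g * d * g⁻¹)⁻¹ := by
          rw [show g * D.s * d * (g * D.s)⁻¹ = g * (D.s * d * D.s⁻¹) * g⁻¹ by group,
            show D.s * d * D.s⁻¹ = d⁻¹ from M.W_inv d hd]
          group
        rw [e2, inv_eq_iff_eq_inv] at e1
        exact e1
      have : g * g * d * (g * g)⁻¹ = d := by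
        rw [show g * g * d * (g * g)⁻¹ = g * (g * d * g⁻¹) * g⁻¹ by group, hi,
          show g * d⁻¹ * g⁻¹ = (g * d * g⁻¹)⁻¹ by group, hi, inv_inv]
      show g * g * d = d * (g * g)
      conv_rhs => rw [← this]
      group
  have ho : orderOf (g * g) = 2 ^ (D.n - 1) := by
    rw [← sq, orderOf_pow, hord, Nat.gcd_eq_right (dvd_pow_self 2 (by omega))]
    rw [show D.n = D.n - 1 + 1 by omega, pow_succ, Nat.mul_div_cancel _ (by norm_num)]
    simp
  have h := two_elt_cd M hd hd1 hc ho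
  rw [← sq, ← orderOf_dvd_iff_pow_eq_one, ho] at h
  have := (Nat.pow_dvd_pow_iff_le_right (x := 2) (k := D.n - 1) (l := 1) one_lt_two).mp (by simpa using h)
  omega

end H70.CSy
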