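import Cfsg.Agent.H76.CSy.Defs
import Cfsg.Agent.H67.InvolCent

/-!
# The semidihedral case of S4069: setup and the statements of its parts
-/

set_option autoImplicit false

open Cfsg Subgroup

namespace H70.CSy

universe u

variable {G : Type u} [Group G] [Finite G]

/-- Common data: the centraliser of the central involution `t` of a semidihedral Sylow subgroup. -/
structure Setup (G : Type u) [Group G] [Finite G] where
  hyp : H76.CSy.Hyp G
  S : Sylow 2 G
  n : ℕ
  x : ↥(S : Subgroup G)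
  y : ↥(S : Subgroup G)
  qd : H67.QD n x y
  t : G
  t_eq : t = (x : G) ^ (2 ^ (n - 1))
  t_mem : t ∈ (S : Subgroup G)
  t_ord : orderOf t = 2
  one : H76.CSy.OneClass G t
  four : ∀ g h : G, orderOf g = 4 → orderOf h = 4 → IsConj g h
  ne_top : centralizer ({t} : Set G) ≠ ⊤
  S_le : (S : Subgroup G) ≤ centralizer ({t} : Set G)
  two_part : (Nat.card G).factorization 2 = n + 1
  cent_S : ∀ g ∈ centralizer ((S : Subgroup G) : Set G), Odd (orderOf g) → g = 1
  /-- the core of `C(t)` -/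
  O : Subgroup G
  O_le : O ≤ centralizer ({t} : Set G)
  O_norm : centralizer ({t} : Set G) ≤ normalizer (O : Set G)
  O_odd : Odd (Nat.card O)
  O_max : ∀ N : Subgroup G, N ≤ centralizer ({t} : Set G) →
    centralizer ({t} : Set G) ≤ normalizer (N : Set G) → Odd (Nat.card N) → N ≤ O
  O_cyc : IsCyclic O
  y_inv : ∀ o ∈ O, (y : G) * o * (y : G)⁻¹ = o⁻¹
  /-- the subgroup of index two with quaternion Sylow 2-subgroup -/
  K : Subgroup G
  K_le : K ≤ centralizer ({t} : Set G)
  K_norm : centralizer ({t} : Set G) ≤ normalizer (K : Set G)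
  K_index : K.relIndex (centralizer ({t} : Set G)) = 2
  O_le_K : O ≤ K
  t_mem_K : t ∈ K
  K_no_two : ∀ H : Subgroup ↥K, H.index ≠ 2
  /-- `S ∩ K` is the quaternion maximal subgroup -/
  mem_K_x : ∀ i : ℤ, (((x ^ i : ↥(S : Subgroup G)) : G) ∈ K ↔ 2 ∣ i)
  mem_K_y : ∀ i : ℤ, (((x ^ i * y : ↥(S : Subgroup G)) : G) ∈ K ↔ ¬ 2 ∣ i)
  K_unique : ∀ k ∈ K, orderOf k = 2 → k = t
  two_comm : ∀ k ∈ K, (∃ j : ℕ, orderOf k = 2 ^ j) → ∀ o ∈ O, k * o = o * k

def SetupStmt : Prop :=
  ∀ (G : Type u) [Group G] [Finite G], H76.CSy.Hyp G → ∀ S : Sylow 2 G,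
    IsQuasiDihedral (S : Subgroup G) → ∃ D : Setup G, D.S = S

/-- `C(t)` solvable (the `SL(2,3)` branch). -/
def CoreStmt : Prop :=
  ∀ (G : Type u) [Group G] [Finite G] (D : Setup G),
    Group.IsSolvable ↥(centralizer ({D.t} : Set G)) → (H76.CSy.SDCore G → False) → False

/-- `C(t)` nonsolvable. -/
def TorusStmt : Prop :=
  ∀ (G : Type u) [Group G] [Finite G] (D : Setup G),
    ¬ Group.IsSolvable ↥(centralizer ({D.t} : Set G)) → (H76.CSy.SDTorus G → False) → False

end H70.CSy
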