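import Cfsg.Agent.H76.CSy.Defs
import Cfsg.Agent.H77.CyclicSylow
import Cfsg.Agent.S3116
import Mathlib

/-!
# Tools for the semidihedral case of S4069
-/

set_option autoImplicit false

open Cfsg Subgroup

namespace H70.CSy

universe u

variable {G : Type u} [Group G] [Finite G]

theorem isCyclic_of_odd_pGroup (hodd : H76.CSy.OddCyclic G) {p : ℕ} [hp : Fact p.Prime]
    (hp2 : p ≠ 2) {A : Subgroup G} (hA : IsPGroup p A) : IsCyclic A := by
  obtain ⟨P, hP⟩ := hA.exists_le_sylow
  have := hodd p hp.out hp2 P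
  exact isCyclic_of_injective (Subgroup.inclusion hP) (Subgroup.inclusion_injective hP)

theorem isZGroup_of_odd (hodd : H76.CSy.OddCyclic G) {A : Subgroup G} (hA : Odd (Nat.card A)) :
    IsZGroup A := by
  refine ⟨fun p hp P => ?_⟩
  have : Fact p.Prime := ⟨hp⟩
  rcases eq_or_ne p 2 with rfl | h2
  · have h1 : Nat.card (P : Subgroup A) = 1 := by
      rw [P.card_eq_multiplicity, Nat.factorization_eq_zero_of_not_dvd, pow_zero]
      exact hA.not_two_dvd_nat
    have : Subsingleton (P : Subgroup A) := (Nat.card_eq_one_iff_unique.mp h1).1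
    infer_instance
  · have := isCyclic_of_odd_pGroup hodd h2 (A := (P : Subgroup A).map A.subtype) (P.2.map _)
    exact isCyclic_of_injective
      ((P : Subgroup A).equivMapOfInjective A.subtype A.subtype_injective).toMonoidHom
      (MulEquiv.injective _)

open scoped Subgroup in
theorem cyclic_eq_of_card {A : Type*} [Group A] [Finite A] [IsCyclic A] (H K : Subgroup A)
    (h : Nat.card H = Nat.card K) : H = K := by
  letI : CommGroup A := IsCyclic.commGroup
  have key : ∀ L : Subgroup A, L = (powMonoidHom (Nat.card L) : A →* A).ker := by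
    intro L
    refine eq_of_le_of_card_ge (fun a ha => ?_) ?_
    · exact MonoidHom.mem_ker.mpr (congrArg Subtype.val (pow_card_eq_one' (x := (⟨a, ha⟩ : L))))
    · rw [IsCyclic.card_powMonoidHom_ker, Nat.gcd_eq_right L.card_subgroup_dvd_card]
  rw [key H, key K, h]

theorem conj_pow_of_conj_eq {g d : G} (h : g * d * g⁻¹ = d) : ∀ k : ℕ, g ^ k * d * (g ^ k)⁻¹ = d := by
  intro k
  have hc : Commute g d := by
    show g * d = d * g
    conv_rhs => rw [← h]
    group
  rw [(hc.pow_left k).eq, mul_inv_cancel_right]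

/-- In a nonabelian simple group with cyclic odd Sylow subgroups an element of odd prime order
is not centralised by its whole normaliser. -/
theorem exists_moving (H : H76.CSy.Hyp G) {q : ℕ} [hq : Fact q.Prime] (hq2 : q ≠ 2) {d : G}
    (hd : orderOf d = q) :
    ∃ g ∈ normalizer (zpowers d : Set G), g * d * g⁻¹ ≠ d := by
  by_contra hc
  push Not at hc
  have hdp : IsPGroup q (zpowers d) := IsPGroup.of_card (n := 1) (by rw [Nat.card_zpowers, hd, pow_one])
  obtain ⟨P, hP⟩ := hdp.exists_le_sylow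
  have := H.odd q hq.out hq2 P
  have hd1 : d ≠ 1 := by
    intro e
    rw [e, orderOf_one] at hd
    exact hq.out.one_lt.ne hd
  have hnd : ∀ m ∈ normalizer ((P : Subgroup G) : Set G), m * d * m⁻¹ = d := by
    intro m hm
    refine hc m ?_
    have hmd : (zpowers d).map (MulAut.conj m).toMonoidHom ≤ (P : Subgroup G) := by
      rintro _ ⟨e, he, rfl⟩
      exact (mem_normalizer_iff.mp hm e).mp (hP he)
    have heq : (zpowers d).map (MulAut.conj m).toMonoidHom = zpowers d := by
      obtain ⟨g, hg⟩ := IsCyclic.exists_generator (α := ↥(P : Subgroup G))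
      have hP' : IsCyclic ↥(P : Subgroup G) := ⟨⟨g, hg⟩⟩
      have hc1 := cyclic_eq_of_card (A := ↥(P : Subgroup G))
        (((zpowers d).map (MulAut.conj m).toMonoidHom).subgroupOf (P : Subgroup G))
        ((zpowers d).subgroupOf (P : Subgroup G))
        (by rw [Nat.card_congr (subgroupOfEquivOfLe hmd).toEquiv,
          Nat.card_congr (subgroupOfEquivOfLe hP).toEquiv,
          Subgroup.card_map_of_injective (MulAut.conj m).injective])
      rw [← map_subgroupOf_eq_of_le hmd, hc1, map_subgroupOf_eq_of_le hP]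
    exact mem_normalizer_iff_of_fintype_zpowers heq
  have hNC : normalizer ((P : Subgroup G) : Set G) ≤ centralizer ((P : Subgroup G) : Set G) :=
    fun m hm => H77.mem_centralizer_of_cyclic_sylow P (hP (mem_zpowers d)) hd1 hm (hnd m hm)
  have hcompl := MonoidHom.ker_transferSylow_isComplement' P hNC
  rcases H.simple.eq_bot_or_eq_top_of_normal _ (MonoidHom.normal_ker (MonoidHom.transferSylow P hNC)) with h | h
  · rw [h] at hcompl
    have hPt : (P : Subgroup G) = ⊤ := Subgroup.isComplement'_bot_left.mp hcompl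
    refine H.nonab ⟨⟨fun a b => ?_⟩⟩
    have hab : IsMulCommutative ↥(P : Subgroup G) := inferInstance
    exact congrArg Subtype.val (hab.is_comm.comm ⟨a, hPt ▸ mem_top a⟩ ⟨b, hPt ▸ mem_top b⟩)
  · rw [h] at hcompl
    have hPb : (P : Subgroup G) = ⊥ := Subgroup.isComplement'_top_left.mp hcompl
    exact hd1 (mem_bot.mp (hPb ▸ hP (mem_zpowers d)))
where
  mem_normalizer_iff_of_fintype_zpowers {m : G} {d : G}
      (h : (zpowers d).map (MulAut.conj m).toMonoidHom = zpowers d) :
      m ∈ normalizer (zpowers d : Set G) := by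
    rw [mem_normalizer_iff]
    intro e
    constructor
    · intro he
      rw [← h]
      exact ⟨e, he, rfl⟩
    · intro he
      rw [← h] at he
      obtain ⟨e', he', hee⟩ := he
      exact (MulAut.conj m).injective hee ▸ he'

/-- A `2`-group of semidihedral type has a `2`-group of automorphisms. -/
theorem aut_two {S : Subgroup G} (hS : IsQuasiDihedral S) (h2 : IsPGroup 2 S) :
    IsPGroup 2 (MulAut S) :=
  Cfsg.Agent.S3116.result h2 (Or.inr hS)

/-- No nontrivial element of odd order centralises a semidihedral Sylow subgroup. -/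
theorem cent_sylow_two (H : H76.CSy.Hyp G) (S : Sylow 2 G)
    (hS : IsQuasiDihedral (S : Subgroup G)) :
    ∀ g ∈ centralizer ((S : Subgroup G) : Set G), Odd (orderOf g) → g = 1 := by
  classical
  by_contra hc
  push Not at hc
  obtain ⟨g₁, hg₁, hodd₁, hne₁⟩ := hc
  set W := centralizer ((S : Subgroup G) : Set G) with hW
  have hex : ∃ q, q.Prime ∧ q ≠ 2 ∧ q ∣ Nat.card W := by
    refine ⟨(orderOf g₁).minFac, Nat.minFac_prime fun h => hne₁ (orderOf_eq_one_iff.mp h), ?_, ?_⟩
    · intro h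
      exact hodd₁.not_two_dvd_nat (h ▸ Nat.minFac_dvd _)
    · exact (Nat.minFac_dvd _).trans (Subgroup.orderOf_dvd_natCard _ hg₁)
  obtain ⟨q, ⟨hq, hq2, hqW⟩, hmin⟩ : ∃ q, (q.Prime ∧ q ≠ 2 ∧ q ∣ Nat.card W) ∧
      ∀ p, p.Prime → p ≠ 2 → p ∣ Nat.card W → q ≤ p :=
    ⟨Nat.find hex, Nat.find_spec hex, fun p h1 h2 h3 => Nat.find_min' hex ⟨h1, h2, h3⟩⟩
  have : Fact q.Prime := ⟨hq⟩
  obtain ⟨⟨d, hdW⟩, hd⟩ := exists_prime_orderOf_dvd_card' q hqW
  rw [Subgroup.orderOf_mk] at hd
  obtain ⟨g, hgN, hgd⟩ := exists_moving H hq2 hd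
  have hSC : (S : Subgroup G) ≤ centralizer ({d} : Set G) := fun s hs =>
    mem_centralizer_singleton_iff.mpr (mem_centralizer_iff.mp hdW s hs)
  set Cd := centralizer ({d} : Set G) with hCd
  have hnorm : ∀ m ∈ normalizer (zpowers d : Set G), ∀ a ∈ Cd, m * a * m⁻¹ ∈ Cd := by
    intro m hm a ha
    have hm' := (normalizer (zpowers d : Set G)).inv_mem hm
    obtain ⟨k, hk⟩ := mem_zpowers_iff.mp ((mem_normalizer_iff.mp hm' d).mp (mem_zpowers d))
    rw [inv_inv] at hk
    have hc1 : Commute a (m⁻¹ * d * m) := hk ▸ (Commute.zpow_right (mem_centralizer_singleton_iff.mp ha) k)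
    apply mem_centralizer_singleton_iff.mpr
    calc m * a * m⁻¹ * d = m * (a * (m⁻¹ * d * m)) * m⁻¹ := by group
      _ = m * ((m⁻¹ * d * m) * a) * m⁻¹ := by rw [hc1.eq]
      _ = d * (m * a * m⁻¹) := by group
  have hgS : ((g • S : Sylow 2 G) : Subgroup G) ≤ Cd := by
    rintro _ ⟨s, hs, rfl⟩
    exact hnorm g hgN s (hSC hs)
  obtain ⟨⟨c, hc⟩, hceq⟩ := MulAction.exists_smul_eq ↥Cd ((g • S).subtype hgS) (S.subtype hSC)
  have hcg : c * g ∈ normalizer ((S : Subgroup G) : Set G) := by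
    apply Sylow.smul_eq_iff_mem_normalizer.mp
    rw [mul_smul]
    exact Sylow.subtype_injective ((Sylow.smul_subtype hgS ⟨c, hc⟩).symm.trans hceq)
  have hcgd : (c * g) * d * (c * g)⁻¹ ≠ d := by
    intro e
    apply hgd
    have hc' := mem_centralizer_singleton_iff.mp hc
    calc g * d * g⁻¹ = c⁻¹ * ((c * g) * d * (c * g)⁻¹) * c := by group
      _ = c⁻¹ * (d * c) := by rw [e, mul_assoc]
      _ = d := by rw [← hc', inv_mul_cancel_left]
  set m := c * g with hm
  have hmd : m ∈ normalizer (zpowers d : Set G) := by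
    refine mul_mem ?_ hgN
    rw [mem_normalizer_iff]
    intro e
    have hcomm : Commute c d := mem_centralizer_singleton_iff.mp hc
    constructor
    · intro he
      obtain ⟨k, rfl⟩ := mem_zpowers_iff.mp he
      rw [(hcomm.zpow_right k).eq, mul_inv_cancel_right]
      exact zpow_mem (mem_zpowers d) k
    · intro he
      obtain ⟨k, hk⟩ := mem_zpowers_iff.mp he
      have : e = c⁻¹ * d ^ k * c := by rw [hk]; group
      rw [this, mul_assoc, ← (hcomm.zpow_right k).eq, inv_mul_cancel_left]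
      exact zpow_mem (mem_zpowers d) k
  obtain ⟨a, b, hab, ha, hb⟩ : ∃ a b : G, a * b = m ∧ (∃ k : ℕ, a = m ^ k ∧ ∃ j : ℕ, orderOf a = 2 ^ j) ∧
      (∃ k : ℕ, b = m ^ k ∧ Odd (orderOf b)) := split_two m
  obtain ⟨ka, hka, ja, hja⟩ := ha
  obtain ⟨kb, hkb, hbodd⟩ := hb
  have haN : a ∈ normalizer ((S : Subgroup G) : Set G) := hka ▸ pow_mem hcg ka
  have hbN : b ∈ normalizer ((S : Subgroup G) : Set G) := hkb ▸ pow_mem hcg kb
  have haS : a ∈ (S : Subgroup G) := by
    have hpz : IsPGroup 2 (zpowers a) := IsPGroup.of_card (by rw [Nat.card_zpowers, hja])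
    have := hpz.inf_normalizer_sylow S
    erw [inf_eq_left.mpr (zpowers_le.mpr haN)] at this
    exact (inf_eq_left.mp this.symm) (mem_zpowers a)
  have had : a * d * a⁻¹ = d := by
    rw [show a * d = d * a from (mem_centralizer_singleton_iff.mp (hSC haS)), mul_inv_cancel_right]
  apply hcgd
  rw [← hab, show a * b * d * (a * b)⁻¹ = a * (b * d * b⁻¹) * a⁻¹ by group]
  suffices hbd : b * d * b⁻¹ = d by rw [hbd, had]
  have hbW : b ∈ W := by
    have : Fact (Nat.Prime 2) := ⟨Nat.prime_two⟩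
    obtain ⟨j, hj⟩ := aut_two hS S.2 ((S : Subgroup G).normalizerMonoidHom ⟨b, hbN⟩)
    rw [← map_pow, ← MonoidHom.mem_ker, Subgroup.normalizerMonoidHom_ker, Subgroup.mem_subgroupOf] at hj
    have hco : (2 ^ j).Coprime (orderOf b) := Nat.Coprime.pow_left _ hbodd.coprime_two_left
    exact (zpowers_le.mpr (show b ^ (2 ^ j) ∈ W from hj))
      ((zpowers_pow_eq hco) ▸ mem_zpowers b)
  have hbd' : b ∈ normalizer (zpowers d : Set G) := hkb ▸ pow_mem hmd kb
  obtain ⟨i, hi⟩ := mem_zpowers_iff.mp ((mem_normalizer_iff.mp hbd' d).mp (mem_zpowers d))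
  exact fix_of_min hd hi.symm hbodd fun p hp hpd => hmin p hp
    (fun h => hbodd.not_two_dvd_nat (h ▸ hpd)) (hpd.trans (Subgroup.orderOf_dvd_natCard _ hbW))
where
  zpowers_pow_eq {b : G} {k : ℕ} (h : k.Coprime (orderOf b)) : zpowers b = zpowers (b ^ k) := by
    refine le_antisymm (zpowers_le.mpr ?_) (zpowers_le.mpr (pow_mem (mem_zpowers b) k))
    obtain ⟨u, hu⟩ := exists_pow_eq_self_of_coprime (x := b) h
    have h3 := pow_mem (mem_zpowers (b ^ k)) u
    rwa [hu] at h3
  split_two (m : G) : ∃ a b : G, a * b = m ∧ (∃ k : ℕ, a = m ^ k ∧ ∃ j : ℕ, orderOf a = 2 ^ j) ∧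
      (∃ k : ℕ, b = m ^ k ∧ Odd (orderOf b)) := by
    obtain ⟨j, r, hr, hmr⟩ := Nat.exists_eq_two_pow_mul_odd (orderOf_pos m).ne'
    have hco : (2 ^ j).Coprime r := Nat.Coprime.pow_left _ hr.coprime_two_left
    obtain ⟨u, hu1, hu2⟩ := Nat.chineseRemainder hco 1 0
    obtain ⟨v, hv1, hv2⟩ := Nat.chineseRemainder hco 0 1
    refine ⟨m ^ u, m ^ v, ?_, ⟨u, rfl, ?_⟩, ⟨v, rfl, ?_⟩⟩
    · rw [← pow_add]
      conv_rhs => rw [← pow_one m]
      rw [pow_eq_pow_iff_modEq, hmr]
      refine (Nat.modEq_and_modEq_iff_modEq_mul hco).mp ⟨?_, ?_⟩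
      · simpa using hu1.add hv1
      · simpa using hu2.add hv2
    · have h1 : (m ^ u) ^ (2 ^ j) = 1 := by
        rw [← pow_mul, ← orderOf_dvd_iff_pow_eq_one, hmr]
        exact Dvd.dvd.trans (mul_dvd_mul dvd_rfl (Nat.modEq_zero_iff_dvd.mp hu2))
          (by rw [mul_comm])
      obtain ⟨i, -, hi⟩ := (Nat.dvd_prime_pow Nat.prime_two).mp (orderOf_dvd_of_pow_eq_one h1)
      exact ⟨i, hi⟩
    · have h1 : (m ^ v) ^ r = 1 := by
        rw [← pow_mul, ← orderOf_dvd_iff_pow_eq_one, hmr]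
        exact mul_dvd_mul (Nat.modEq_zero_iff_dvd.mp hv1) dvd_rfl
      exact hr.of_dvd_nat (orderOf_dvd_of_pow_eq_one h1)
  fix_of_min {b d : G} {q : ℕ} [Fact q.Prime] {i : ℤ} (hd : orderOf d = q)
      (hi : b * d * b⁻¹ = d ^ i) (hodd : Odd (orderOf b))
      (hmin : ∀ p, p.Prime → p ∣ orderOf b → q ≤ p) : b * d * b⁻¹ = d := by
    have hq := Fact.out (p := q.Prime)
    have hk : ∀ k : ℕ, b ^ k * d * (b ^ k)⁻¹ = d ^ (i ^ k) := by
      intro k
      induction k with
      | zero => simp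
      | succ k ih =>
        rw [pow_succ', show b * b ^ k * d * (b * b ^ k)⁻¹ = b * (b ^ k * d * (b ^ k)⁻¹) * b⁻¹ by group,
          ih, ← conj_zpow, hi, ← zpow_mul, pow_succ']
    have h1 : d ^ (i ^ orderOf b) = d ^ (1 : ℤ) := by
      rw [← hk, pow_orderOf_eq_one]
      group
    rw [zpow_eq_zpow_iff_modEq, hd, ← ZMod.intCast_eq_intCast_iff] at h1
    push_cast at h1
    have hne : (i : ZMod q) ≠ 0 := by
      intro h0
      rw [h0, zero_pow (orderOf_pos b).ne'] at h1
      exact zero_ne_one h1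
    set z : (ZMod q)ˣ := Units.mk0 (i : ZMod q) hne
    have hz1 : orderOf z ∣ orderOf b := orderOf_dvd_of_pow_eq_one (Units.ext (by simpa [z] using h1))
    have hz2 : orderOf z ∣ q - 1 := orderOf_dvd_of_pow_eq_one (ZMod.units_pow_card_sub_one_eq_one q z)
    have hz : orderOf z = 1 := by
      by_contra hne1
      have hp := Nat.minFac_prime hne1
      have h3 := hmin _ hp ((Nat.minFac_dvd _).trans hz1)
      have h4 := Nat.le_of_dvd (by have := hq.two_le; omega) ((Nat.minFac_dvd _).trans hz2)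
      have := hq.two_le
      omega
    have hz' : (i : ZMod q) = ((1 : ℤ) : ZMod q) := by
      push_cast
      exact congrArg Units.val (orderOf_eq_one_iff.mp hz)
    rw [hi]
    conv_rhs => rw [← zpow_one d]
    rw [zpow_eq_zpow_iff_modEq, hd, ← ZMod.intCast_eq_intCast_iff]
    exact hz'

end H70.CSy
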