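import Cfsg.Agent.H70.CSy.Model
import Cfsg.Agent.H70.CSy.Tools

/-!
# The four-group `U = ⟨t, y⟩` and the torus `W` in the semidihedral case of S4069
-/

set_option autoImplicit false

open Cfsg Subgroup

namespace H70.CSy

universe u

variable {G : Type u} [Group G] [Finite G] (D : Setup G)

namespace Setup

/-- The outer involution swapping `y` and `ty`. -/
noncomputable def s : G :=
  ((D.x ^ (H67.qdQ D.n) * D.y : ↥(D.S : Subgroup G)) : G)

theorem t_coe : D.t = ((D.x ^ (2 * H67.qdQ D.n) : ↥(D.S : Subgroup G)) : G) := by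
  rw [D.t_eq, D.qd.two_q, Subgroup.coe_zpow, ← zpow_natCast]
  push_cast
  rfl

theorem y_sq : (D.y : G) * (D.y : G) = 1 := congrArg Subtype.val D.qd.y_mul_y

theorem y_inv' : (D.y : G)⁻¹ = (D.y : G) := congrArg Subtype.val D.qd.y_inv

theorem y_ord : orderOf (D.y : G) = 2 := (Subgroup.orderOf_coe _).trans D.qd.ordy

theorem t_sq : D.t * D.t = 1 := by
  rw [← sq, ← D.t_ord, pow_orderOf_eq_one]

theorem y_mem : (D.y : G) ∈ centralizer ({D.t} : Set G) := D.S_le D.y.2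

theorem ty_comm : Commute D.t (D.y : G) :=
  (mem_centralizer_singleton_iff.mp D.y_mem).symm

theorem y_notMem : (D.y : G) ∉ D.K := fun h => by
  have := (D.mem_K_y 0).mp (by simpa using h)
  exact this (dvd_zero 2)

theorem t_ne_y : D.t ≠ (D.y : G) := fun h => D.y_notMem (h ▸ D.t_mem_K)

theorem y_ne_one : (D.y : G) ≠ 1 := fun h => by
  have := D.y_ord
  rw [h, orderOf_one] at this
  omega

theorem t_ne_one : D.t ≠ 1 := fun h => by
  have := D.t_ord
  rw [h, orderOf_one] at this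
  omega

theorem ty_ne_one : D.t * (D.y : G) ≠ 1 := fun h => by
  apply D.t_ne_y
  rw [← mul_right_cancel_iff (a := (D.y : G)), h, D.y_sq]

theorem s_mem : D.s ∈ centralizer ({D.t} : Set G) := D.S_le (SetLike.coe_mem _)

theorem s_sq : D.s * D.s = 1 := by
  show (((D.x ^ (H67.qdQ D.n) * D.y) * (D.x ^ (H67.qdQ D.n) * D.y) : ↥(D.S : Subgroup G)) : G) = 1
  have := (D.qd.y_form_sq_eq_one (H67.qdQ D.n)).mpr D.qd.q_two_dvd
  rw [sq] at this
  exact congrArg Subtype.val this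

theorem s_inv : D.s⁻¹ = D.s := inv_eq_of_mul_eq_one_right D.s_sq

theorem s_y : D.s * (D.y : G) * D.s⁻¹ = D.t * (D.y : G) := by
  rw [D.t_coe]
  show (((D.x ^ (H67.qdQ D.n) * D.y) * D.y * (D.x ^ (H67.qdQ D.n) * D.y)⁻¹ :
      ↥(D.S : Subgroup G)) : G) = ((D.x ^ (2 * H67.qdQ D.n) * D.y : ↥(D.S : Subgroup G)) : G)
  congr 1
  have hyy : ∀ a : ↥(D.S : Subgroup G), D.y * (D.y * a) = a := fun a => by
    rw [← mul_assoc, D.qd.y_mul_y, one_mul]
  rw [show D.x ^ (H67.qdQ D.n) * D.y * D.y * (D.x ^ (H67.qdQ D.n) * D.y)⁻¹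
      = D.x ^ (H67.qdQ D.n) * (D.x ^ (0 : ℤ) * D.y) * (D.x ^ (H67.qdQ D.n))⁻¹ by
    rw [zpow_zero, one_mul, mul_inv_rev, D.qd.y_inv]
    simp only [mul_assoc, hyy], D.qd.conj_x_y_form, D.qd.zpow_mul_y_eq_iff]
  obtain ⟨r, hr⟩ := D.qd.q_two_dvd
  refine ⟨-r, ?_⟩
  rw [hr]
  ring

theorem s_t : D.s * D.t * D.s⁻¹ = D.t := by
  rw [mem_centralizer_singleton_iff.mp D.s_mem, mul_inv_cancel_right]

theorem s_ty : D.s * (D.t * (D.y : G)) * D.s⁻¹ = (D.y : G) := by
  rw [show D.s * (D.t * (D.y : G)) * D.s⁻¹ = (D.s * D.t * D.s⁻¹) * (D.s * (D.y : G) * D.s⁻¹) by group,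
    D.s_t, D.s_y, ← mul_assoc, D.t_sq, one_mul]

/-- Involutions of `C(t)` outside `K` are conjugate to `y` in `C(t)`. -/
theorem conj_to_y {i : G} (hi : i ∈ centralizer ({D.t} : Set G)) (ho : orderOf i = 2)
    (hit : i ≠ D.t) : ∃ a ∈ centralizer ({D.t} : Set G), a * i * a⁻¹ = (D.y : G) := by
  have : Fact (Nat.Prime 2) := ⟨Nat.prime_two⟩
  have hp : IsPGroup 2 (zpowers i) :=
    IsPGroup.of_card (n := 1) (by rw [Nat.card_zpowers, ho, pow_one])
  obtain ⟨a, ha, hmem⟩ := H67.conj_into_sylow D.S _ (zpowers i) D.S_le hp (zpowers_le.mpr hi)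
  have hs := hmem i (mem_zpowers i)
  set w : ↥(D.S : Subgroup G) := ⟨a * i * a⁻¹, hs⟩ with hw
  have hwo : orderOf w = 2 :=
    (Subgroup.orderOf_coe w).symm.trans
      ((orderOf_injective (MulAut.conj a).toMonoidHom (MulAut.conj a).injective i).trans ho)
  rcases D.qd.orderOf_two_cases hwo with h | ⟨j, hj, h⟩
  · exfalso
    apply hit
    have h1 : a * i * a⁻¹ = D.t := by
      rw [D.t_coe, ← h, hw]
    calc i = a⁻¹ * (a * i * a⁻¹) * a := by group
      _ = a⁻¹ * (a * D.t) := by rw [h1, mul_assoc, mem_centralizer_singleton_iff.mp ha]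
      _ = D.t := inv_mul_cancel_left a D.t
  · obtain ⟨g, hg, hge⟩ := D.qd.y_form_conj_G j 0 (by omega)
    refine ⟨g * a, mul_mem (D.S_le hg) ha, ?_⟩
    rw [← h, hw, zpow_zero, one_mul] at hge
    rw [← hge]
    group

end Setup

/-- The four-group `{1, t, y, ty}`. -/
def U : Subgroup G where
  carrier := {g | g = 1 ∨ g = D.t ∨ g = (D.y : G) ∨ g = D.t * (D.y : G)}
  one_mem' := Or.inl rfl
  inv_mem' := by
    rintro g (rfl | rfl | rfl | rfl)
    · exact Or.inl inv_one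
    · exact Or.inr (Or.inl (inv_eq_of_mul_eq_one_right D.t_sq))
    · exact Or.inr (Or.inr (Or.inl D.y_inv'))
    · refine Or.inr (Or.inr (Or.inr ?_))
      rw [mul_inv_rev, D.y_inv', inv_eq_of_mul_eq_one_right D.t_sq, D.ty_comm.eq]
  mul_mem' := by
    have h1 := D.t_sq
    have h2 := D.y_sq
    have h3 : (D.y : G) * D.t = D.t * (D.y : G) := D.ty_comm.eq.symm
    have h4 : ∀ a, D.t * (D.t * a) = a := fun a => by rw [← mul_assoc, h1, one_mul]
    have h5 : ∀ a, (D.y : G) * ((D.y : G) * a) = a := fun a => by rw [← mul_assoc, h2, one_mul]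
    have h6 : ∀ a, (D.y : G) * (D.t * a) = D.t * ((D.y : G) * a) := fun a => by
      rw [← mul_assoc, h3, mul_assoc]
    rintro a b (rfl | rfl | rfl | rfl) (rfl | rfl | rfl | rfl) <;>
      simp [mul_assoc, h1, h2, h3, h4, h5, h6]

theorem mem_U {g : G} : g ∈ U D ↔ g = 1 ∨ g = D.t ∨ g = (D.y : G) ∨ g = D.t * (D.y : G) := Iff.rfl

theorem t_mem_U : D.t ∈ U D := Or.inr (Or.inl rfl)

theorem y_mem_U : (D.y : G) ∈ U D := Or.inr (Or.inr (Or.inl rfl))

theorem card_U : Nat.card (U D) = 4 := by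
  classical
  have : (U D : Set G) = ↑({1, D.t, (D.y : G), D.t * (D.y : G)} : Finset G) := by
    ext g
    simp only [SetLike.mem_coe, mem_U, Finset.coe_insert, Finset.coe_singleton, Set.mem_insert_iff,
      Set.mem_singleton_iff]
  show Nat.card (U D : Set G) = 4
  rw [Nat.card_coe_set_eq, this, Set.ncard_coe_finset]
  have a1 := D.t_ne_one
  have a2 := D.y_ne_one
  have a3 := D.t_ne_y
  have a4 : D.t * (D.y : G) ≠ D.t := fun h => a2 (mul_eq_left.mp h)
  have a5 : D.t * (D.y : G) ≠ (D.y : G) := fun h => a1 (mul_eq_right.mp h)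
  have a6 := D.ty_ne_one
  rw [Finset.card_insert_of_notMem (by simp [Ne.symm a1, Ne.symm a2, Ne.symm a6]),
    Finset.card_insert_of_notMem (by simp [a3, Ne.symm a4]),
    Finset.card_insert_of_notMem (by simp [Ne.symm a5]), Finset.card_singleton]

theorem U_exp {g : G} (hg : g ∈ U D) : g * g = 1 := by
  rcases hg with rfl | rfl | rfl | rfl
  · simp
  · exact D.t_sq
  · exact D.y_sq
  · rw [show D.t * (D.y : G) * (D.t * (D.y : G)) = D.t * ((D.y : G) * D.t) * (D.y : G) by group,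
      D.ty_comm.eq.symm, ← mul_assoc D.t, D.t_sq, one_mul, D.y_sq]

variable {D}
variable (M : Model D)

theorem W_le_cty : M.W ≤ centralizer ({D.t, (D.y : G)} : Set G) := by
  intro w hw
  rw [mem_centralizer_iff]
  rintro g (rfl | rfl)
  · exact (mem_centralizer_singleton_iff.mp (D.K_le (M.W_le hw))).symm
  · exact (M.W_ty w hw).eq

theorem U_le_cty : U D ≤ centralizer ({D.t, (D.y : G)} : Set G) := by
  intro u hu
  rw [mem_centralizer_iff]
  rintro g (rfl | rfl) <;> rcases hu with rfl | rfl | rfl | rfl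
  · simp
  · rfl
  · exact D.ty_comm.eq
  · exact ((Commute.refl D.t).mul_right D.ty_comm).eq
  · simp
  · exact D.ty_comm.eq.symm
  · rfl
  · exact (D.ty_comm.symm.mul_right (Commute.refl _)).eq

theorem cty_eq : centralizer ({D.t, (D.y : G)} : Set G) = U D ⊔ M.W := by
  refine (eq_of_le_of_card_ge (sup_le (U_le_cty (D := D)) (W_le_cty M)) ?_).symm
  have h1 : 4 ∣ Nat.card ↥(U D ⊔ M.W) := card_U D ▸ card_dvd_of_le le_sup_left
  have h2 : M.T ∣ Nat.card ↥(U D ⊔ M.W) := M.card_W ▸ card_dvd_of_le le_sup_right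
  have hco : (4).Coprime M.T := by
    rw [show (4 : ℕ) = 2 ^ 2 by norm_num]
    exact Nat.Coprime.pow_left _ M.T_odd.coprime_two_left
  rw [M.card_cty]
  exact Nat.le_of_dvd Nat.card_pos (hco.mul_dvd_of_dvd_of_dvd h1 h2)

theorem commute_U_W {u w : G} (hu : u ∈ U D) (hw : w ∈ M.W) : Commute u w := by
  have h := mem_centralizer_iff.mp (W_le_cty M hw)
  rcases hu with rfl | rfl | rfl | rfl
  · exact Commute.one_left w
  · exact h _ (Set.mem_insert _ _)
  · exact h _ (Set.mem_insert_of_mem _ rfl)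
  · exact (show Commute D.t w from h _ (Set.mem_insert _ _)).mul_left
      (h _ (Set.mem_insert_of_mem _ rfl))

theorem cty_decomp {g : G} (hg : g ∈ centralizer ({D.t, (D.y : G)} : Set G)) :
    ∃ u ∈ U D, ∃ w ∈ M.W, g = u * w := by
  rw [cty_eq M] at hg
  have hn : U D ≤ normalizer (M.W : Set G) := by
    intro u hu
    rw [mem_normalizer_iff]
    intro w
    constructor
    · intro hw
      rwa [(commute_U_W M hu hw).eq, mul_inv_cancel_right]
    · intro hw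
      have h := (commute_U_W M hu hw).eq
      have : u * w * u⁻¹ = w := by
        have h2 : w = u⁻¹ * ((u * w * u⁻¹) * u) := by group
        rw [← h, inv_mul_cancel_left] at h2
        exact h2.symm
      rwa [this] at hw
  rw [← SetLike.mem_coe, coe_mul_of_left_le_normalizer_right _ _ hn] at hg
  obtain ⟨u, hu, w, hw, h⟩ := hg
  exact ⟨u, hu, w, hw, h.symm⟩

theorem W_comm {a b : G} (ha : a ∈ M.W) (hb : b ∈ M.W) : a * b = b * a := by
  have := M.W_cyc
  letI : CommGroup ↥M.W := IsCyclic.commGroup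
  exact congrArg Subtype.val (mul_comm (⟨a, ha⟩ : ↥M.W) ⟨b, hb⟩)

theorem W_odd_pow {w : G} (hw : w ∈ M.W) : Odd (orderOf w) :=
  M.T_odd.of_dvd_nat (M.card_W ▸ Subgroup.orderOf_dvd_natCard _ hw)

theorem odd_cty_mem_W {g : G} (hg : g ∈ centralizer ({D.t, (D.y : G)} : Set G))
    (ho : Odd (orderOf g)) : g ∈ M.W := by
  obtain ⟨u, hu, w, hw, rfl⟩ := cty_decomp M hg
  obtain ⟨k, hk⟩ := ho
  have h := pow_orderOf_eq_one (u * w)
  rw [(commute_U_W M hu hw).mul_pow, hk, pow_succ u, pow_mul, sq, U_exp D hu, one_pow, one_mul] at h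
  have : u = (w ^ (2 * k + 1))⁻¹ := eq_inv_of_mul_eq_one_left h
  have huW : u ∈ M.W := this ▸ inv_mem (pow_mem hw _)
  exact mul_mem huW hw

/-- An element permuting `t, y, ty` cyclically normalises the torus and centralises it. -/
theorem exists_h : ∃ h : G, h * D.t * h⁻¹ = D.t * (D.y : G) ∧
    h * (D.t * (D.y : G)) * h⁻¹ = (D.y : G) ∧ h * (D.y : G) * h⁻¹ = D.t ∧
    (∀ w ∈ M.W, h * w = w * h) ∧ ∃ k : ℕ, 1 ≤ k ∧ orderOf h = 3 ^ k := by
  obtain ⟨g, hg⟩ := isConj_iff.mp (D.one (D.y : G) D.y_ord).symm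
  -- `g y g⁻¹ = t`
  set t' := g * D.t * g⁻¹ with ht'
  have ht'C : t' ∈ centralizer ({D.t} : Set G) := by
    rw [mem_centralizer_singleton_iff]
    suffices hh : t' * (g * (D.y : G) * g⁻¹) = g * (D.y : G) * g⁻¹ * t' by rwa [hg] at hh
    rw [ht']
    calc g * D.t * g⁻¹ * (g * (D.y : G) * g⁻¹) = g * (D.t * (D.y : G)) * g⁻¹ := by group
      _ = g * ((D.y : G) * D.t) * g⁻¹ := by rw [D.ty_comm.eq]
      _ = g * (D.y : G) * g⁻¹ * (g * D.t * g⁻¹) := by group
  have ht'o : orderOf t' = 2 := by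
    rw [← D.t_ord]
    exact orderOf_injective (MulAut.conj g).toMonoidHom (MulAut.conj g).injective _
  have ht'ne : t' ≠ D.t := by
    rw [ht']
    intro e
    exact D.t_ne_y ((MulAut.conj g).injective (e.trans hg.symm))
  obtain ⟨a, ha, hat⟩ := D.conj_to_y ht'C ht'o ht'ne
  set h0 := a * g with hh0
  have hac := mem_centralizer_singleton_iff.mp ha
  have h0t : h0 * D.t * h0⁻¹ = (D.y : G) := by
    rw [hh0, show a * g * D.t * (a * g)⁻¹ = a * (g * D.t * g⁻¹) * a⁻¹ by group, ← ht', hat]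
  have h0y : h0 * (D.y : G) * h0⁻¹ = D.t := by
    rw [hh0, show a * g * (D.y : G) * (a * g)⁻¹ = a * (g * (D.y : G) * g⁻¹) * a⁻¹ by group, hg, hac,
      mul_inv_cancel_right]
  set h1 := D.s * h0 with hh1
  have h1t : h1 * D.t * h1⁻¹ = D.t * (D.y : G) := by
    rw [hh1, show D.s * h0 * D.t * (D.s * h0)⁻¹ = D.s * (h0 * D.t * h0⁻¹) * D.s⁻¹ by group, h0t, D.s_y]
  have h1y : h1 * (D.y : G) * h1⁻¹ = D.t := by
    rw [hh1, show D.s * h0 * (D.y : G) * (D.s * h0)⁻¹ = D.s * (h0 * (D.y : G) * h0⁻¹) * D.s⁻¹ by group,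
      h0y, D.s_t]
  have h1ty : h1 * (D.t * (D.y : G)) * h1⁻¹ = (D.y : G) := by
    rw [show h1 * (D.t * (D.y : G)) * h1⁻¹ = (h1 * D.t * h1⁻¹) * (h1 * (D.y : G) * h1⁻¹) by group,
      h1t, h1y, D.ty_comm.eq, mul_assoc, D.t_sq, mul_one]
  -- conjugation by `h0` and `h1` on `W`
  have hnorm : ∀ m : G, m * D.t * m⁻¹ ∈ U D → m * (D.y : G) * m⁻¹ ∈ U D →
      m⁻¹ * D.t * m ∈ U D → m⁻¹ * (D.y : G) * m ∈ U D →
      ∀ w ∈ M.W, m * w * m⁻¹ ∈ M.W := by
    intro m _ _ hm3 hm4 w hw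
    refine odd_cty_mem_W M ?_ ?_
    · rw [mem_centralizer_iff]
      rintro v hv
      have hv' : m⁻¹ * v * m ∈ U D := by
        rcases hv with rfl | rfl
        · exact hm3
        · exact hm4
      have hc := (commute_U_W M hv' hw).eq
      calc v * (m * w * m⁻¹) = m * ((m⁻¹ * v * m) * w) * m⁻¹ := by group
        _ = m * (w * (m⁻¹ * v * m)) * m⁻¹ := by rw [hc]
        _ = m * w * m⁻¹ * v := by group
    · rw [show orderOf (m * w * m⁻¹) = orderOf w from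
        orderOf_injective (MulAut.conj m).toMonoidHom (MulAut.conj m).injective w]
      exact W_odd_pow M hw
  have hh0n : ∀ w ∈ M.W, h0 * w * h0⁻¹ ∈ M.W := by
    have e1 : h0⁻¹ * (D.y : G) * h0 = D.t := by rw [← h0t]; group
    have e2 : h0⁻¹ * D.t * h0 = (D.y : G) := by rw [← h0y]; group
    exact hnorm h0 (h0t ▸ y_mem_U D) (h0y ▸ t_mem_U D) (e2 ▸ y_mem_U D) (e1 ▸ t_mem_U D)
  have := M.W_cyc
  obtain ⟨⟨v, hvW⟩, hv⟩ := IsCyclic.exists_generator (α := ↥M.W)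
  have hgen : ∀ w ∈ M.W, ∃ i : ℤ, w = v ^ i := fun w hw => by
    obtain ⟨i, hi⟩ := mem_zpowers_iff.mp (hv ⟨w, hw⟩)
    exact ⟨i, by simpa using (congrArg Subtype.val hi).symm⟩
  obtain ⟨α, hα⟩ := hgen _ (hh0n v hvW)
  have hh0sq : (h0 * h0) * v = v * (h0 * h0) := by
    have hY : h0 * h0 ∈ centralizer ({D.t, (D.y : G)} : Set G) := by
      rw [mem_centralizer_iff]
      rintro z (rfl | rfl)
      · have : h0 * h0 * D.t * (h0 * h0)⁻¹ = D.t := by
          rw [show h0 * h0 * D.t * (h0 * h0)⁻¹ = h0 * (h0 * D.t * h0⁻¹) * h0⁻¹ by group, h0t, h0y]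
        conv_lhs => rw [← this]
        group
      · have : h0 * h0 * (D.y : G) * (h0 * h0)⁻¹ = (D.y : G) := by
          rw [show h0 * h0 * (D.y : G) * (h0 * h0)⁻¹ = h0 * (h0 * (D.y : G) * h0⁻¹) * h0⁻¹ by group,
            h0y, h0t]
        conv_lhs => rw [← this]
        group
    obtain ⟨u, hu, w, hw, he⟩ := cty_decomp M hY
    rw [he]
    exact ((commute_U_W M hu hvW).mul_left (W_comm M hw hvW)).eq
  have hsw : ∀ w ∈ M.W, D.s * w * D.s⁻¹ = w⁻¹ := fun w hw => M.W_inv w hw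
  have ha2 : v ^ (α * α) = v := by
    have e : h0 * h0 * v * (h0 * h0)⁻¹ = v := by rw [hh0sq, mul_inv_cancel_right]
    rw [show h0 * h0 * v * (h0 * h0)⁻¹ = h0 * (h0 * v * h0⁻¹) * h0⁻¹ by group, hα, ← conj_zpow,
      hα, ← zpow_mul] at e
    exact e
  have h1v : h1 * v * h1⁻¹ = v ^ (-α) := by
    rw [hh1, show D.s * h0 * v * (D.s * h0)⁻¹ = D.s * (h0 * v * h0⁻¹) * D.s⁻¹ by group, hα,
      ← conj_zpow, hsw v hvW, inv_zpow, zpow_neg]
  have hpow : ∀ i : ℕ, h1 ^ i * v * (h1 ^ i)⁻¹ = v ^ ((-α) ^ i) := by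
    intro i
    induction i with
    | zero => simp
    | succ i ih =>
      rw [pow_succ', show h1 * h1 ^ i * v * (h1 * h1 ^ i)⁻¹ = h1 * (h1 ^ i * v * (h1 ^ i)⁻¹) * h1⁻¹ by group,
        ih, ← conj_zpow, h1v, ← zpow_mul, pow_succ']
  have h13 : h1 ^ 3 ∈ centralizer ({D.t, (D.y : G)} : Set G) := by
    rw [mem_centralizer_iff]
    rintro z (rfl | rfl)
    · have : h1 ^ 3 * D.t * (h1 ^ 3)⁻¹ = D.t := by
        rw [show h1 ^ 3 * D.t * (h1 ^ 3)⁻¹ = h1 * (h1 * (h1 * D.t * h1⁻¹) * h1⁻¹) * h1⁻¹ by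
          simp only [pow_succ, pow_zero, one_mul]; group, h1t, h1ty, h1y]
      conv_lhs => rw [← this]
      group
    · have : h1 ^ 3 * (D.y : G) * (h1 ^ 3)⁻¹ = (D.y : G) := by
        rw [show h1 ^ 3 * (D.y : G) * (h1 ^ 3)⁻¹ = h1 * (h1 * (h1 * (D.y : G) * h1⁻¹) * h1⁻¹) * h1⁻¹ by
          simp only [pow_succ, pow_zero, one_mul]; group, h1y, h1t, h1ty]
      conv_lhs => rw [← this]
      group
  have h1c : h1 * v * h1⁻¹ = v := by
    obtain ⟨u, hu, w, hw, he⟩ := cty_decomp M h13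
    have e : h1 ^ 3 * v * (h1 ^ 3)⁻¹ = v := by
      rw [he, ((commute_U_W M hu hvW).mul_left (W_comm M hw hvW)).eq, mul_inv_cancel_right]
    rw [hpow 3] at e
    rw [h1v]
    calc v ^ (-α) = (v ^ (α * α)) ^ (-α) := by rw [ha2]
      _ = v ^ ((-α) ^ 3) := by rw [← zpow_mul]; ring_nf
      _ = v := e
  have h1W : ∀ w ∈ M.W, Commute h1 w := by
    intro w hw
    obtain ⟨i, rfl⟩ := hgen w hw
    refine Commute.zpow_right ?_ i
    show h1 * v = v * h1
    conv_rhs => rw [← h1c]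
    group
  -- the 3-part of `h1`
  have h1ne : ¬ Commute h1 D.t := by
    intro hc
    rw [hc.eq, mul_inv_cancel_right] at h1t
    exact D.y_ne_one (mul_eq_left.mp h1t.symm)
  have hperm : ∀ i : ℕ, (i % 3 = 0 → h1 ^ i * D.t * (h1 ^ i)⁻¹ = D.t) ∧
      (i % 3 = 1 → h1 ^ i * D.t * (h1 ^ i)⁻¹ = D.t * (D.y : G)) ∧
      (i % 3 = 2 → h1 ^ i * D.t * (h1 ^ i)⁻¹ = (D.y : G)) := by
    intro i
    induction i with
    | zero => simp
    | succ i ih =>
      have e : h1 ^ (i + 1) * D.t * (h1 ^ (i + 1))⁻¹ = h1 * (h1 ^ i * D.t * (h1 ^ i)⁻¹) * h1⁻¹ := by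
        rw [pow_succ']; group
      rw [e]
      refine ⟨fun h => ?_, fun h => ?_, fun h => ?_⟩
      · rw [ih.2.2 (by omega), h1y]
      · rw [ih.1 (by omega), h1t]
      · rw [ih.2.1 (by omega), h1ty]
  have h3 : 3 ∣ orderOf h1 := by
    by_contra hc
    have := hperm (orderOf h1)
    rw [pow_orderOf_eq_one] at this
    simp only [one_mul, inv_one, mul_one] at this
    rcases (show orderOf h1 % 3 = 1 ∨ orderOf h1 % 3 = 2 by omega) with h | h
    · exact D.y_ne_one (mul_eq_left.mp (this.2.1 h).symm)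
    · exact D.t_ne_y (this.2.2 h)
  obtain ⟨k, r, hr, hkr⟩ := Nat.exists_eq_pow_mul_and_not_dvd (orderOf_pos h1).ne' 3 (by norm_num)
  have hk : 1 ≤ k := by
    by_contra hc
    rw [show k = 0 by omega, pow_zero, one_mul] at hkr
    exact hr (hkr ▸ h3)
  have hco : (3 ^ k).Coprime r :=
    Nat.Coprime.pow_left _ ((Nat.Prime.coprime_iff_not_dvd Nat.prime_three).mpr hr)
  obtain ⟨e, he1, he2⟩ := Nat.chineseRemainder hco 1 0
  have he3 : e % 3 = 1 := by
    have := he1.of_dvd (dvd_pow_self 3 (by omega : k ≠ 0))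
    rw [Nat.ModEq] at this
    omega
  refine ⟨h1 ^ e, (hperm e).2.1 he3, ?_, ?_, fun w hw => ((h1W w hw).pow_left e).eq, k, hk, ?_⟩
  · have h := (hperm (e + 1)).2.2 (by omega)
    rw [show h1 ^ (e + 1) * D.t * (h1 ^ (e + 1))⁻¹ = h1 ^ e * (h1 * D.t * h1⁻¹) * (h1 ^ e)⁻¹ by
      rw [pow_succ]; group, h1t] at h
    exact h
  · have h := (hperm (e + 2)).1 (by omega)
    rw [show h1 ^ (e + 2) * D.t * (h1 ^ (e + 2))⁻¹
        = h1 ^ e * (h1 * (h1 * D.t * h1⁻¹) * h1⁻¹) * (h1 ^ e)⁻¹ by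
      simp only [pow_succ]; group, h1t, h1ty] at h
    exact h
  · have h1' : (h1 ^ e) ^ (3 ^ k) = 1 := by
      rw [← pow_mul, ← orderOf_dvd_iff_pow_eq_one, hkr, mul_comm e]
      exact mul_dvd_mul dvd_rfl (Nat.modEq_zero_iff_dvd.mp he2)
    refine Nat.dvd_antisymm (orderOf_dvd_of_pow_eq_one h1') ?_
    have h2 : orderOf h1 ∣ orderOf (h1 ^ e) * e := by
      rw [orderOf_dvd_iff_pow_eq_one, mul_comm, pow_mul, pow_orderOf_eq_one]
    have h4 : (3 ^ k).Coprime e := Nat.Coprime.pow_left _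
      ((Nat.Prime.coprime_iff_not_dvd Nat.prime_three).mpr (by omega))
    exact h4.dvd_of_dvd_mul_right ((hkr ▸ dvd_mul_right (3 ^ k) r).trans h2)

end H70.CSy
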