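import Cfsg.Agent.H70.CSy.Defs

/-!
# Interface: the structure of `C(t) = (O × SL(2,r)).2` in the semidihedral case of S4069
-/

set_option autoImplicit false

open Cfsg Subgroup

namespace H70.CSy

universe u

/-- Borel subgroup data, when the core of `C(t)` is trivial. -/
structure Borel {G : Type u} [Group G] (t : G) (W : Subgroup G) (r T T' : ℕ) (η : ℤ) where
  card_ct : Nat.card (centralizer ({t} : Set G)) = 2 * r * (r ^ 2 - 1)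
  g₀ : G
  B : Subgroup G
  R : Subgroup G
  T₀ : Subgroup G
  B_le : B ≤ centralizer ({t} : Set G)
  R_le : R ≤ B
  T₀_le : T₀ ≤ B
  card_R : Nat.card R = r
  T₀_odd : Odd (Nat.card T₀)
  card_T₀ : Nat.card T₀ = if η = 1 then T else T'
  T₀_W : η = 1 → T₀ = W
  B_normR : B ≤ normalizer (R : Set G)
  B_normH : B ≤ normalizer ((R ⊔ T₀ : Subgroup G) : Set G)
  H_index : ∃ k : ℕ, (R ⊔ T₀).relIndex B = 2 ^ k
  B_index : Nat.card (centralizer ({t} : Set G)) = (r + 1) * Nat.card B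
  t_mem_B : t ∈ B
  B_ab : ∀ a ∈ B, ∀ b ∈ B, a * b * a⁻¹ * b⁻¹ ∈ R
  T₀_fpf : ∀ d ∈ T₀, d ≠ 1 → ∀ ρ ∈ R, ρ ≠ 1 → ρ * d ≠ d * ρ
  two_trans : ∀ g ∈ centralizer ({t} : Set G), g ∉ B →
    r * Nat.card {b : G // b ∈ B ∧ g⁻¹ * b * g ∈ B} = Nat.card B
  g₀_mem : g₀ ∈ centralizer ({t} : Set G)
  g₀_notMem : g₀ ∉ B
  g₀_inv : ∀ d ∈ T₀, g₀ * d * g₀⁻¹ = d⁻¹
  cent_d : ∀ d ∈ T₀, d ≠ 1 → Nat.card (centralizer ({t, d} : Set G)) * (r * (r + 1)) =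
    Nat.card (centralizer ({t} : Set G))
  fix_d : ∀ d ∈ T₀, d ≠ 1 → ∀ g ∈ centralizer ({t} : Set G), g⁻¹ * d * g ∈ B →
    g ∈ B ∨ g₀⁻¹ * g ∈ B
  /-- elements of order `r` of `C(t)` -/
  R_conj : ∀ d ∈ centralizer ({t} : Set G), orderOf d = r →
    ∃ g ∈ centralizer ({t} : Set G), g * d * g⁻¹ ∈ R
  /-- `C(t) ∩ C(R) = R × ⟨t⟩` -/
  card_cR : Nat.card (centralizer (insert t (R : Set G)) : Subgroup G) = 2 * r
  /-- split torus of `PGL(2,r)`, faithful on `R` modulo `⟨t⟩` -/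
  e : G
  e_mem : e ∈ B
  e_ord : η = -1 → orderOf e = 2 * (r - 1)
  e_pow : ∀ k : ℕ, (∀ ρ ∈ R, e ^ k * ρ * (e ^ k)⁻¹ = ρ) → r - 1 ∣ k
  split_invol : η = 1 → ∃ i ∈ B, orderOf i = 2 ∧ i ≠ t

/-- The data of `C(t) = (O × SL(2,r)).2` for a prime `r ≥ 5`. -/
structure Model {G : Type u} [Group G] [Finite G] (D : Setup G) where
  r : ℕ
  hr : r.Prime
  hr5 : 5 ≤ r
  η : ℤ
  hη : η = 1 ∨ η = -1
  T : ℕ
  T' : ℕ
  hT : (r : ℤ) - η = 2 * (T : ℤ)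
  hT' : (r : ℤ) + η = 2 ^ (D.n - 1) * (T' : ℤ)
  T_odd : Odd T
  T'_odd : Odd T'
  r_O : (r * (r ^ 2 - 1)).Coprime (Nat.card D.O)
  card_ct : Nat.card (centralizer ({D.t} : Set G)) = 2 * r * (r ^ 2 - 1) * Nat.card D.O
  /-- odd part of `C_L(y)` -/
  W : Subgroup G
  W_cyc : IsCyclic W
  card_W : Nat.card W = T
  W_le : W ≤ D.K
  W_ty : ∀ w ∈ W, Commute (D.y : G) w
  W_O : ∀ w ∈ W, ∀ o ∈ D.O, Commute w o
  W_inv : ∀ w ∈ W,
    ((D.x ^ (H67.qdQ D.n) * D.y : ↥(D.S : Subgroup G)) : G) * w *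
      ((D.x ^ (H67.qdQ D.n) * D.y : ↥(D.S : Subgroup G)) : G)⁻¹ = w⁻¹
  /-- `C(t) ∩ C(y) = U × W` -/
  card_cty : Nat.card (centralizer ({D.t, (D.y : G)} : Set G)) = 4 * T
  /-- `C(t) ∩ C(d) = (O × torus).2` for `d ∈ W#` -/
  cent_W : ∀ d ∈ W, d ≠ 1 →
    Nat.card (centralizer ({D.t, d} : Set G)) = 4 * T * Nat.card D.O
  W_conj : ∀ d ∈ centralizer ({D.t} : Set G), (orderOf d).Prime → orderOf d ∣ T →
    ∃ g ∈ centralizer ({D.t} : Set G), g * d * g⁻¹ ∈ W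
  /-- an element of order prime dividing `T'`: its centraliser in `C(t)` -/
  cent_T' : ∀ d ∈ centralizer ({D.t} : Set G), (orderOf d).Prime → orderOf d ∣ T' →
    Nat.card (centralizer ({D.t, d} : Set G)) = 2 ^ D.n * T' * Nat.card D.O ∧
    (∃ c : G, Commute c D.t ∧ Commute c d ∧ orderOf c = 2 ^ D.n) ∧
    ∃ i : G, orderOf i = 2 ∧ i ≠ D.t ∧ Commute i D.t ∧ i * d * i⁻¹ = d⁻¹
  borel : D.O = ⊥ → Borel D.t W r T T' η

/-- Nonsolvable `C(t)` has the model structure. -/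
def ModelStmt : Prop :=
  ∀ (G : Type u) [Group G] [Finite G] (D : Setup G),
    ¬ Group.IsSolvable ↥(centralizer ({D.t} : Set G)) → Nonempty (Model D)

end H70.CSy
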