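import Cfsg.Agent.H70.CSy.SemiOf
import Cfsg.Agent.H53.CSy.Model
import Cfsg.Agent.H72.CSy.Core

/-!
# The semidihedral case of S4069
-/

set_option autoImplicit false

open Cfsg Subgroup

namespace H70.CSy

universe u

/-- The semidihedral case of S4069. -/
theorem semi : H76.CSy.SemiStmt.{u} := semi_of H72.CSy.core H53.CSy.model

end H70.CSy
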