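import Cfsg.Agent.H70.CSy.Struct

/-!
# The torus configuration of the semidihedral case of S4069
-/

set_option autoImplicit false
set_option linter.style.haveILetI false

open Cfsg Subgroup

namespace H70.CSy

universe u

variable {G : Type u} [Group G] [Finite G] {D : Setup G} (M : Model D)

/-- Facts about the element `y₃` of order three of the torus. -/
structure ThreeFacts (y₃ : G) : Prop where
  mem : y₃ ∈ M.W
  ord : orderOf y₃ = 3
  cW : ∀ g ∈ centralizer ({y₃} : Set G), ∀ w ∈ M.W, Commute g w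
  cU : ∀ g ∈ centralizer ({y₃} : Set G), g ∈ normalizer (U D : Set G)
  cI : ∀ g ∈ centralizer ({y₃} : Set G), g * g = 1 → g ∈ U D
  facts : WFacts D M

variable {M} {y₃ : G}

theorem ThreeFacts.ne_one (F : ThreeFacts M y₃) : y₃ ≠ 1 := fun e => by
  have := F.ord
  rw [e, orderOf_one] at this
  omega

theorem ThreeFacts.card_cy (F : ThreeFacts M y₃) :
    Nat.card (centralizer ({y₃} : Set G)) = 12 * M.T :=
  F.facts.card_cd y₃ F.mem (F.ord ▸ Nat.prime_three)

theorem ThreeFacts.inv_ne (F : ThreeFacts M y₃) : y₃⁻¹ ≠ y₃ := fun e => by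
  have h : y₃ ^ 2 = 1 := by rw [sq]; exact inv_eq_iff_mul_eq_one.mp e
  have := orderOf_dvd_of_pow_eq_one h
  rw [F.ord] at this
  norm_num at this

theorem ThreeFacts.conj_cases (F : ThreeFacts M y₃) {g : G}
    (hg : g ∈ normalizer (zpowers y₃ : Set G)) :
    g * y₃ * g⁻¹ = y₃ ∨ g * y₃ * g⁻¹ = y₃⁻¹ := by
  rcases norm_cases M F.mem F.ne_one hg with h | h
  · exact Or.inl (conj_eq_of_commute' h)
  · right
    have e := conj_eq_of_commute' h
    have e2 : g * D.s * y₃ * (g * D.s)⁻¹ = (g * y₃ * g⁻¹)⁻¹ := by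
      rw [show g * D.s * y₃ * (g * D.s)⁻¹ = g * (D.s * y₃ * D.s⁻¹) * g⁻¹ by group,
        show D.s * y₃ * D.s⁻¹ = y₃⁻¹ from M.W_inv _ F.mem]
      group
    rw [e2, inv_eq_iff_eq_inv] at e
    exact e

theorem ThreeFacts.sylow (F : ThreeFacts M y₃) :
    ∃ P : Sylow 3 G, y₃ ∈ (P : Subgroup G) ∧ IsCyclic ↥(P : Subgroup G) ∧
      Nat.card (P : Subgroup G) = 3 * 3 ^ M.T.factorization 3 ∧
      (centralizer ((P : Subgroup G) : Set G)).relIndex
        (normalizer ((P : Subgroup G) : Set G)) = 2 := by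
  have : Fact (Nat.Prime 3) := ⟨Nat.prime_three⟩
  obtain ⟨P, hP⟩ := (IsPGroup.of_card (n := 1) (G := zpowers y₃)
    (by rw [Nat.card_zpowers, F.ord, pow_one]) : IsPGroup 3 _).exists_le_sylow
  have hy : y₃ ∈ (P : Subgroup G) := hP (mem_zpowers _)
  have hcyc := D.hyp.odd 3 Nat.prime_three (by norm_num) P
  have hPE : (P : Subgroup G) ≤ centralizer ({y₃} : Set G) := by
    intro a ha
    letI : CommGroup ↥(P : Subgroup G) := IsCyclic.commGroup
    exact mem_centralizer_singleton_iff.mpr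
      (congrArg Subtype.val (mul_comm (⟨a, ha⟩ : ↥(P : Subgroup G)) ⟨y₃, hy⟩))
  have hT0 : M.T ≠ 0 := by have := one_lt_T M; omega
  have hf : (12 * M.T).factorization 3 = 1 + M.T.factorization 3 := by
    rw [Nat.factorization_mul (by norm_num) hT0, Finsupp.add_apply,
      show (12 : ℕ) = 3 * 4 by norm_num, Nat.factorization_mul (by norm_num) (by norm_num),
      Finsupp.add_apply, Nat.Prime.factorization_self Nat.prime_three,
      Nat.factorization_eq_zero_of_not_dvd (show ¬ 3 ∣ 4 by norm_num)]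
  have hfG : (Nat.card G).factorization 3 = 1 + M.T.factorization 3 := by
    refine le_antisymm ?_ ?_
    · rw [← hf, ← F.card_cy]
      refine (Nat.prime_three.pow_dvd_iff_le_factorization Nat.card_pos.ne').mp ?_
      rw [← P.card_eq_multiplicity]
      exact card_dvd_of_le hPE
    · rw [← hf, ← F.card_cy]
      exact (Nat.factorization_le_iff_dvd Nat.card_pos.ne' Nat.card_pos.ne').mpr
        (card_subgroup_dvd_card _) 3
  refine ⟨P, hy, hcyc, by rw [P.card_eq_multiplicity, hfG, pow_add, pow_one], ?_⟩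
  set E := centralizer ({y₃} : Set G) with hE
  -- an element of the normaliser inverting `y₃`
  have hsE : ∀ e ∈ E, D.s * e * D.s⁻¹ ∈ E := by
    intro e he
    have h1 : D.s * y₃ * D.s⁻¹ = y₃⁻¹ := M.W_inv _ F.mem
    have h2 : Commute e y₃⁻¹ := (show Commute e y₃ from mem_centralizer_singleton_iff.mp he).inv_right
    rw [hE, mem_centralizer_singleton_iff]
    have h3 : D.s⁻¹ * y₃ * D.s = y₃⁻¹ := by
      have := congrArg (fun z => D.s⁻¹ * z⁻¹ * D.s) h1
      simp only [mul_inv_rev, inv_inv] at this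
      rw [← this]
      group
    calc D.s * e * D.s⁻¹ * y₃ = D.s * (e * (D.s⁻¹ * y₃ * D.s)) * D.s⁻¹ := by group
      _ = D.s * (D.s⁻¹ * y₃ * D.s * e) * D.s⁻¹ := by rw [h3, h2.eq]
      _ = y₃ * (D.s * e * D.s⁻¹) := by group
  have hsP : ((D.s • P : Sylow 3 G) : Subgroup G) ≤ E := by
    rintro _ ⟨a, ha, rfl⟩
    exact hsE a (hPE ha)
  obtain ⟨⟨k, hk⟩, hkeq⟩ := MulAction.exists_smul_eq ↥E ((D.s • P).subtype hsP) (P.subtype hPE)
  have hks : k * D.s ∈ normalizer ((P : Subgroup G) : Set G) := by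
    apply Sylow.smul_eq_iff_mem_normalizer.mp
    rw [mul_smul]
    exact Sylow.subtype_injective ((Sylow.smul_subtype hsP ⟨k, hk⟩).symm.trans hkeq)
  have hksy : k * D.s * y₃ * (k * D.s)⁻¹ = y₃⁻¹ := by
    rw [show k * D.s * y₃ * (k * D.s)⁻¹ = k * (D.s * y₃ * D.s⁻¹) * k⁻¹ by group,
      show D.s * y₃ * D.s⁻¹ = y₃⁻¹ from M.W_inv _ F.mem,
      conj_eq_of_commute' ((show Commute k y₃ from mem_centralizer_singleton_iff.mp hk).inv_right)]
  have hNy : ∀ m ∈ normalizer ((P : Subgroup G) : Set G), m ∈ normalizer (zpowers y₃ : Set G) := by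
    intro m hm
    refine mem_normalizer_zpowers' ?_
    rw [← zpowers_eq_of_sylow P ((mem_normalizer_iff.mp hm _).mp hy) hy (orderOf_conj' m y₃)]
    exact mem_zpowers _
  have hcen : ∀ m ∈ normalizer ((P : Subgroup G) : Set G), m * y₃ * m⁻¹ = y₃ →
      m ∈ centralizer ((P : Subgroup G) : Set G) := fun m hm hme =>
    H77.mem_centralizer_of_cyclic_sylow P hy F.ne_one hm hme
  rw [relIndex_eq_two_iff_exists_notMem_and]
  refine ⟨k * D.s, hks, fun h => F.inv_ne ?_, fun b hb => ?_⟩
  · exact hksy.symm.trans (conj_eq_of_commute' (mem_centralizer_iff.mp h y₃ hy).symm)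
  · rcases F.conj_cases (hNy b hb) with e | e
    · exact Or.inr (hcen b hb e)
    · refine Or.inl (hcen _ (mul_mem hb hks) ?_)
      rw [show b * (k * D.s) * y₃ * (b * (k * D.s))⁻¹ = b * (k * D.s * y₃ * (k * D.s)⁻¹) * b⁻¹ by group,
        hksy, show b * y₃⁻¹ * b⁻¹ = (b * y₃ * b⁻¹)⁻¹ by group, e, inv_inv]

theorem ThreeFacts.inv_count (F : ThreeFacts M y₃) : H76.CSy.invCount G y₃ = 6 * M.T := by
  classical
  set E := centralizer ({y₃} : Set G) with hE
  obtain ⟨h, h1, h2, h3, hW, -⟩ := exists_h M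
  have hsy : D.s * y₃ * D.s⁻¹ = y₃⁻¹ := M.W_inv _ F.mem
  have hhy : ∀ k : ℕ, h ^ k ∈ E := fun k =>
    mem_centralizer_singleton_iff.mpr (((show Commute h y₃ from hW _ F.mem).pow_left k)).eq
  have hUE : U D ≤ E := U_le_cd M F.mem
  have hWE : M.W ≤ E := fun w hw => mem_centralizer_singleton_iff.mpr (W_comm M hw F.mem)
  let τ : Bool → G := fun b => if b then D.t else 1
  have hτU : ∀ b, τ b ∈ U D := by
    intro b
    cases b
    · exact one_mem _
    · exact t_mem_U D
  have hτt : ∀ b, Commute (τ b) D.t := by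
    intro b
    cases b
    · exact Commute.one_left _
    · exact Commute.refl _
  have hτs : ∀ b, D.s * τ b * D.s⁻¹ = τ b := by
    intro b
    cases b
    · simp [τ]
    · exact D.s_t
  let base : Bool → ↥M.W → G := fun b w => (w : G) * τ b * D.s
  have hbase_t : ∀ b w, base b w * D.t * (base b w)⁻¹ = D.t := by
    intro b w
    have hwt : Commute (w : G) D.t := (commute_U_W M (t_mem_U D) w.2).symm
    show (w : G) * τ b * D.s * D.t * ((w : G) * τ b * D.s)⁻¹ = D.t
    rw [show (w : G) * τ b * D.s * D.t * ((w : G) * τ b * D.s)⁻¹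
      = ((w : G) * τ b) * (D.s * D.t * D.s⁻¹) * ((w : G) * τ b)⁻¹ by group, D.s_t,
      conj_eq_of_commute' (hwt.mul_left (hτt b))]
  have hbase_y : ∀ b w, base b w * (D.y : G) * (base b w)⁻¹ = D.t * (D.y : G) := by
    intro b w
    have hu : D.t * (D.y : G) ∈ U D := mul_mem (t_mem_U D) (y_mem_U D)
    have hwy : Commute (w : G) (D.t * (D.y : G)) := (commute_U_W M hu w.2).symm
    have hty : Commute (τ b) (D.t * (D.y : G)) := by
      cases b
      · exact Commute.one_left _
      · exact (Commute.refl _).mul_right D.ty_comm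
    show (w : G) * τ b * D.s * (D.y : G) * ((w : G) * τ b * D.s)⁻¹ = D.t * (D.y : G)
    rw [show (w : G) * τ b * D.s * (D.y : G) * ((w : G) * τ b * D.s)⁻¹
      = ((w : G) * τ b) * (D.s * (D.y : G) * D.s⁻¹) * ((w : G) * τ b)⁻¹ by group, D.s_y,
      conj_eq_of_commute' (hwy.mul_left hty)]
  have hbase_sq : ∀ b w, base b w * base b w = 1 := by
    intro b w
    have hws : D.s * (w : G) * D.s⁻¹ = (w : G)⁻¹ := M.W_inv _ w.2
    have h2τ : τ b * τ b = 1 := U_exp D (hτU b)
    show (w : G) * τ b * D.s * ((w : G) * τ b * D.s) = 1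
    rw [show (w : G) * τ b * D.s * ((w : G) * τ b * D.s)
      = (w : G) * τ b * (D.s * (w : G) * D.s⁻¹) * (D.s * τ b * D.s⁻¹) * (D.s * D.s) by group,
      hws, hτs, D.s_sq, mul_one,
      show (w : G) * τ b * (w : G)⁻¹ = τ b from
        conj_eq_of_commute' (commute_U_W M (hτU b) w.2).symm, h2τ]
  have hbase_inv : ∀ b w, base b w * y₃ * (base b w)⁻¹ = y₃⁻¹ := by
    intro b w
    have hc : Commute ((w : G) * τ b) y₃⁻¹ :=
      (Commute.mul_left (W_comm M w.2 F.mem : Commute (w : G) y₃)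
        (commute_U_W M (hτU b) F.mem)).inv_right
    show (w : G) * τ b * D.s * y₃ * ((w : G) * τ b * D.s)⁻¹ = y₃⁻¹
    rw [show (w : G) * τ b * D.s * y₃ * ((w : G) * τ b * D.s)⁻¹
      = ((w : G) * τ b) * (D.s * y₃ * D.s⁻¹) * ((w : G) * τ b)⁻¹ by group, hsy,
      conj_eq_of_commute' hc]
  let pt : Fin 3 → G := fun j => h ^ (j : ℕ) * D.t * (h ^ (j : ℕ))⁻¹
  have hpt1 : pt 0 = D.t := by simp [pt]
  have hpt2 : pt 1 = D.t * (D.y : G) := by simpa [pt] using h1
  have hpt3 : pt 2 = (D.y : G) := by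
    show h ^ 2 * D.t * (h ^ 2)⁻¹ = (D.y : G)
    rw [show h ^ 2 * D.t * (h ^ 2)⁻¹ = h * (h * D.t * h⁻¹) * h⁻¹ by
      rw [sq]; group, h1, h2]
  have hptinj : Function.Injective pt := by
    intro i j
    have a3 := D.t_ne_y
    have a4 : D.t * (D.y : G) ≠ D.t := fun h => D.y_ne_one (mul_eq_left.mp h)
    have a5 : D.t * (D.y : G) ≠ (D.y : G) := fun h => D.t_ne_one (mul_eq_right.mp h)
    fin_cases i <;> fin_cases j <;> intro e <;>
      first
        | rfl
        | simp [hpt1, hpt2, hpt3, a3, a4, a5, Ne.symm a3, Ne.symm a4, Ne.symm a5] at e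
  -- the involution fixes exactly one of the three points
  have hfixpt : ∀ b w (j : Fin 3), base b w * pt j * (base b w)⁻¹ = pt j → pt j = D.t := by
    intro b w j e
    fin_cases j
    · exact hpt1
    · exfalso
      have e' : base b w * (D.t * (D.y : G)) * (base b w)⁻¹ = D.t * (D.y : G) := by
        rw [← hpt2]; exact e
      have := (MulAut.conj (base b w)).injective (e'.trans (hbase_y b w).symm)
      exact D.t_ne_one (mul_eq_right.mp this)
    · exfalso
      have e' : base b w * (D.y : G) * (base b w)⁻¹ = (D.y : G) := by rw [← hpt3]; exact e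
      exact D.t_ne_one (mul_eq_right.mp ((hbase_y b w).symm.trans e'))
  let el : Fin 3 × Bool × ↥M.W → G := fun z =>
    h ^ (z.1 : ℕ) * base z.2.1 z.2.2 * (h ^ (z.1 : ℕ))⁻¹
  have hel : ∀ z, orderOf (el z) = 2 ∧ el z * y₃ * (el z)⁻¹ = y₃⁻¹ := by
    rintro ⟨j, b, w⟩
    have hcy : Commute (h ^ (j : ℕ)) y₃ := mem_centralizer_singleton_iff.mp (hhy _)
    have hinv : el (j, b, w) * y₃ * (el (j, b, w))⁻¹ = y₃⁻¹ := by
      show h ^ (j : ℕ) * base b w * (h ^ (j : ℕ))⁻¹ * y₃ * (h ^ (j : ℕ) * base b w * (h ^ (j : ℕ))⁻¹)⁻¹ = y₃⁻¹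
      rw [show h ^ (j : ℕ) * base b w * (h ^ (j : ℕ))⁻¹ * y₃ * (h ^ (j : ℕ) * base b w * (h ^ (j : ℕ))⁻¹)⁻¹
        = h ^ (j : ℕ) * (base b w * ((h ^ (j : ℕ))⁻¹ * y₃ * (h ^ (j : ℕ))⁻¹⁻¹) * (base b w)⁻¹) * (h ^ (j : ℕ))⁻¹
        by group, conj_eq_of_commute' hcy.inv_left, hbase_inv, conj_eq_of_commute' hcy.inv_right]
    refine ⟨orderOf_eq_prime (p := 2) ?_ ?_, hinv⟩
    · show (h ^ (j : ℕ) * base b w * (h ^ (j : ℕ))⁻¹) ^ 2 = 1
      rw [sq, show h ^ (j : ℕ) * base b w * (h ^ (j : ℕ))⁻¹ * (h ^ (j : ℕ) * base b w * (h ^ (j : ℕ))⁻¹)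
        = h ^ (j : ℕ) * (base b w * base b w) * (h ^ (j : ℕ))⁻¹ by group, hbase_sq]
      group
    · intro e
      rw [e] at hinv
      simp only [one_mul, inv_one, mul_one] at hinv
      exact F.inv_ne hinv.symm
  let Φ : Fin 3 × Bool × ↥M.W → {i : G // orderOf i = 2 ∧ i * y₃ * i⁻¹ = y₃⁻¹} :=
    fun z => ⟨el z, hel z⟩
  have helpt : ∀ z : Fin 3 × Bool × ↥M.W, el z * pt z.1 * (el z)⁻¹ = pt z.1 := by
    rintro ⟨j, b, w⟩
    show h ^ (j : ℕ) * base b w * (h ^ (j : ℕ))⁻¹ * (h ^ (j : ℕ) * D.t * (h ^ (j : ℕ))⁻¹)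
      * (h ^ (j : ℕ) * base b w * (h ^ (j : ℕ))⁻¹)⁻¹ = h ^ (j : ℕ) * D.t * (h ^ (j : ℕ))⁻¹
    rw [show h ^ (j : ℕ) * base b w * (h ^ (j : ℕ))⁻¹ * (h ^ (j : ℕ) * D.t * (h ^ (j : ℕ))⁻¹)
      * (h ^ (j : ℕ) * base b w * (h ^ (j : ℕ))⁻¹)⁻¹
      = h ^ (j : ℕ) * (base b w * D.t * (base b w)⁻¹) * (h ^ (j : ℕ))⁻¹ by group, hbase_t]
  have hΦ : Function.Bijective Φ := by
    refine ⟨?_, ?_⟩
    · rintro ⟨j, b, w⟩ ⟨j', b', w'⟩ e
      have e' : el (j, b, w) = el (j', b', w') := congrArg Subtype.val e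
      have hjj : j = j' := by
        by_contra hne
        have hf := helpt (j, b, w)
        rw [e'] at hf
        set a := h ^ (j' : ℕ) with ha
        have hba : base b' w' * (a⁻¹ * pt j * a) * (base b' w')⁻¹ = a⁻¹ * pt j * a := by
          have := congrArg (fun z => a⁻¹ * z * a) hf
          simp only [el, ← ha] at this
          conv_rhs => rw [← this]
          group
        obtain ⟨k, hk⟩ : ∃ k, a⁻¹ * pt j * a = pt k := by
          have hmem : a⁻¹ * pt j * a ∈ U D := by
            have hptU : ∀ i, pt i ∈ U D := by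
              intro i
              fin_cases i
              · exact hpt1 ▸ t_mem_U D
              · exact hpt2 ▸ mul_mem (t_mem_U D) (y_mem_U D)
              · exact hpt3 ▸ y_mem_U D
            have := (mem_normalizer_iff.mp (F.cU _ (inv_mem (hhy j'))) _).mp (hptU j)
            rwa [inv_inv] at this
          rcases hmem with e1 | e1 | e1 | e1
          · exfalso
            have : pt j = 1 := by
              have := congrArg (fun z => a * z * a⁻¹) e1
              simpa [mul_assoc] using this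
            exact D.t_ne_one ((MulAut.conj (h ^ (j : ℕ))).injective
              (this.trans (map_one (MulAut.conj (h ^ (j : ℕ)))).symm))
          · exact ⟨0, e1.trans hpt1.symm⟩
          · exact ⟨2, e1.trans hpt3.symm⟩
          · exact ⟨1, e1.trans hpt2.symm⟩
        rw [hk] at hba
        have := hfixpt _ _ _ hba
        rw [← hk] at this
        refine hne (hptinj ?_)
        show pt j = a * D.t * a⁻¹
        rw [← this]
        group
      subst hjj
      have e2 : base b w = base b' w' :=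
        mul_left_cancel (mul_right_cancel (show h ^ (j : ℕ) * base b w * (h ^ (j : ℕ))⁻¹
          = h ^ (j : ℕ) * base b' w' * (h ^ (j : ℕ))⁻¹ from e'))
      have e3 : (w : G) * τ b = (w' : G) * τ b' := mul_right_cancel e2
      have e4 : (w' : G)⁻¹ * w = 1 := by
        have hu : (w' : G)⁻¹ * w = τ b' * (τ b)⁻¹ := by
          calc (w' : G)⁻¹ * w = (w' : G)⁻¹ * ((w : G) * τ b) * (τ b)⁻¹ := by group
            _ = τ b' * (τ b)⁻¹ := by rw [e3]; group
        refine orderOf_eq_one_iff.mp (Nat.eq_one_of_dvd_coprimes (a := 2) (b := M.T)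
          M.T_odd.coprime_two_left ?_ ?_)
        · rw [hu]
          exact orderOf_dvd_of_pow_eq_one
            (by rw [sq]; exact U_exp D (mul_mem (hτU _) (inv_mem (hτU _))))
        · exact M.card_W ▸ Subgroup.orderOf_dvd_natCard _ (mul_mem (inv_mem w'.2) w.2)
      have e5 : w = w' := Subtype.ext (inv_mul_eq_one.mp e4).symm
      subst e5
      have e6 : τ b = τ b' := mul_left_cancel e3
      have : b = b' := by
        cases b <;> cases b' <;> simp_all [τ, D.t_ne_one]
      subst this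
      rfl
    · rintro ⟨i, hio, hiy⟩
      have hi2 : i * i = 1 := by rw [← sq, ← hio, pow_orderOf_eq_one]
      have hiinv : i⁻¹ = i := inv_eq_of_mul_eq_one_right hi2
      -- `i` normalises `U`
      have hiE : ∀ g ∈ E, i * g * i⁻¹ ∈ E := by
        intro g hg
        have hc : Commute g y₃⁻¹ := (show Commute g y₃ from mem_centralizer_singleton_iff.mp hg).inv_right
        rw [hE, mem_centralizer_singleton_iff]
        have hiy' : i⁻¹ * y₃ * i = y₃⁻¹ := by rwa [hiinv] at hiy ⊢
        calc i * g * i⁻¹ * y₃ = i * (g * (i⁻¹ * y₃ * i)) * i⁻¹ := by group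
          _ = i * (i⁻¹ * y₃ * i * g) * i⁻¹ := by rw [hiy', hc.eq]
          _ = y₃ * (i * g * i⁻¹) := by group
      have hiU : ∀ u ∈ U D, i * u * i⁻¹ ∈ U D := by
        intro u hu
        refine F.cI _ (hiE u (hUE hu)) ?_
        rw [show i * u * i⁻¹ * (i * u * i⁻¹) = i * (u * u) * i⁻¹ by group, U_exp D hu]
        group
      -- one of the three points is fixed
      obtain ⟨j, hj⟩ : ∃ j, i * pt j * i⁻¹ = pt j := by
        have hne1 : ∀ v, v ≠ 1 → i * v * i⁻¹ ≠ 1 := fun v hv e => hv (by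
          have := congrArg (fun z => i⁻¹ * z * i) e
          simpa [mul_assoc] using this)
        have hback : ∀ v v', i * v * i⁻¹ = v' → i * v' * i⁻¹ = v := by
          intro v v' e
          rw [← e, hiinv, show i * (i * v * i) * i = (i * i) * v * (i * i) by group, hi2]
          simp
        rcases hiU _ (t_mem_U D) with e | e | e | e
        · exact absurd e (hne1 _ D.t_ne_one)
        · exact ⟨0, by rw [hpt1]; exact e⟩
        · refine ⟨1, ?_⟩
          rw [hpt2, show i * (D.t * (D.y : G)) * i⁻¹ = (i * D.t * i⁻¹) * (i * (D.y : G) * i⁻¹) by group,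
            e, hback _ _ e, D.ty_comm.eq]
        · refine ⟨2, ?_⟩
          have e' := hback _ _ e
          rw [hpt3]
          calc i * (D.y : G) * i⁻¹ = (i * D.t * i⁻¹) * (i * (D.t * (D.y : G)) * i⁻¹) := by
                rw [show (i * D.t * i⁻¹) * (i * (D.t * (D.y : G)) * i⁻¹)
                  = i * ((D.t * D.t) * (D.y : G)) * i⁻¹ by group, D.t_sq, one_mul]
            _ = D.t * (D.y : G) * D.t := by rw [e, e']
            _ = (D.y : G) := by rw [D.ty_comm.eq, mul_assoc, D.t_sq, mul_one]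
      set a := h ^ (j : ℕ) with ha
      set i' := a⁻¹ * i * a with hi'
      have hay : Commute a y₃ := mem_centralizer_singleton_iff.mp (hhy _)
      have hi't : i' * D.t * i'⁻¹ = D.t := by
        have := congrArg (fun z => a⁻¹ * z * a) hj
        rw [hi']
        calc a⁻¹ * i * a * D.t * (a⁻¹ * i * a)⁻¹ = a⁻¹ * (i * (a * D.t * a⁻¹) * i⁻¹) * a := by group
          _ = D.t := by rw [show i * (a * D.t * a⁻¹) * i⁻¹ = a * D.t * a⁻¹ from hj]; group
      have hi'y : i' * y₃ * i'⁻¹ = y₃⁻¹ := by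
        rw [hi', show a⁻¹ * i * a * y₃ * (a⁻¹ * i * a)⁻¹ = a⁻¹ * (i * (a * y₃ * a⁻¹) * i⁻¹) * a⁻¹⁻¹ by group,
          conj_eq_of_commute' hay, hiy, conj_eq_of_commute' hay.inv_left.inv_right]
      have hC : i' * D.s ∈ centralizer ({D.t, y₃} : Set G) := by
        rw [mem_centralizer_iff]
        rintro z (rfl | rfl)
        · refine (commute_of_conj_eq' ?_).eq.symm
          rw [show i' * D.s * D.t * (i' * D.s)⁻¹ = i' * (D.s * D.t * D.s⁻¹) * i'⁻¹ by group, D.s_t, hi't]
        · refine (commute_of_conj_eq' ?_).eq.symm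
          rw [show i' * D.s * z * (i' * D.s)⁻¹ = i' * (D.s * z * D.s⁻¹) * i'⁻¹ by group, hsy,
            show i' * z⁻¹ * i'⁻¹ = (i' * z * i'⁻¹)⁻¹ by group, hi'y, inv_inv]
      have hCc : centralizer ({D.t, (D.y : G)} : Set G) = centralizer ({D.t, y₃} : Set G) := by
        refine eq_of_le_of_card_ge ?_ ?_
        · intro g hg
          obtain ⟨u, hu, w, hw, rfl⟩ := cty_decomp M hg
          rw [mem_centralizer_iff]
          rintro z (rfl | rfl)
          · exact mem_centralizer_iff.mp hg _ (Set.mem_insert _ _)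
          · exact ((commute_U_W M hu F.mem).mul_left (W_comm M hw F.mem)).eq.symm
        · rw [M.cent_W y₃ F.mem F.ne_one, F.facts.O_bot, card_bot, mul_one, M.card_cty]
      obtain ⟨u, hu, w, hw, huw⟩ := cty_decomp M (hCc.symm ▸ hC)
      have hi'e : i' = w * u * D.s := by
        rw [← (commute_U_W M hu hw).eq, ← huw, mul_assoc, D.s_sq, mul_one]
      have hi'2 : i' * i' = 1 := by
        rw [hi', show a⁻¹ * i * a * (a⁻¹ * i * a) = a⁻¹ * (i * i) * a by group, hi2]
        group
      have hus : D.s * u * D.s⁻¹ = u := by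
        have hws : D.s * w * D.s⁻¹ = w⁻¹ := M.W_inv w hw
        rw [hi'e, show w * u * D.s * (w * u * D.s)
          = w * u * (D.s * w * D.s⁻¹) * (D.s * u * D.s⁻¹) * (D.s * D.s) by group,
          hws, D.s_sq, mul_one, conj_eq_of_commute' (commute_U_W M hu hw).symm] at hi'2
        exact (inv_eq_of_mul_eq_one_right hi'2).symm.trans
          (inv_eq_of_mul_eq_one_right (U_exp D hu))
      obtain ⟨b, hb⟩ : ∃ b, u = τ b := by
        rcases hu with rfl | rfl | rfl | rfl
        · exact ⟨false, rfl⟩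
        · exact ⟨true, rfl⟩
        · rw [D.s_y] at hus
          exact absurd (mul_eq_right.mp hus) D.t_ne_one
        · rw [D.s_ty] at hus
          exact absurd (mul_eq_right.mp hus.symm) D.t_ne_one
      refine ⟨(j, b, ⟨w, hw⟩), Subtype.ext ?_⟩
      show a * (w * τ b * D.s) * a⁻¹ = i
      rw [← hb, ← hi'e, hi']
      group
  show Nat.card {i : G // orderOf i = 2 ∧ i * y₃ * i⁻¹ = y₃⁻¹} = 6 * M.T
  rw [← Nat.card_eq_of_bijective Φ hΦ, Nat.card_prod, Nat.card_prod, Nat.card_fin, M.card_W,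
    Nat.card_eq_fintype_card, Fintype.card_bool]
  ring

/-- The torus configuration. -/
theorem torus (hM : ModelStmt.{u}) (hL : LateStmt.{u}) : TorusStmt.{u} := by
  intro G _ _ D hns hkill
  obtain ⟨M⟩ := hM G D hns
  obtain ⟨y₃, hy, hyo, hcW, hcU, hcI, hW⟩ := wfacts M
  have F : ThreeFacts M y₃ := ⟨hy, hyo, hcW, hcU, hcI, hW⟩
  obtain ⟨hu3, hpart, hclass, hsep⟩ := hL G D M hW
  obtain ⟨P, hyP, hcyc, hPc, hrel⟩ := F.sylow
  have B := M.borel hW.O_bot
  have hn := D.qd.three_le
  refine hkill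
    { n := D.n + 1
      hn := by omega
      r := M.r
      hr := M.hr
      hr5 := M.hr5
      η := M.η
      hη := M.hη
      T := M.T
      T' := M.T'
      hT := M.hT
      hT' := by rw [show D.n + 1 - 2 = D.n - 1 by omega]; exact M.hT'
      T_odd := M.T_odd
      T'_odd := M.T'_odd
      T_three := hW.T_three
      two_part := D.two_part
      S := D.S
      qd := ⟨D.n, D.qd.three_le, D.qd.card_eq, D.x, D.y, D.qd.ordx, D.qd.ordy, D.qd.rel⟩
      t := D.t
      t_mem := D.t_mem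
      t_ord := D.t_ord
      one := D.one
      card_ct := B.card_ct
      c := (D.x : G)
      c_mem := D.x.2
      c_ord := by rw [Subgroup.orderOf_coe, D.qd.ordx, Nat.add_sub_cancel]
      c_pow := by rw [show D.n + 1 - 2 = D.n - 1 by omega]; exact D.t_eq.symm
      three_prime := hu3
      P := P
      cyc := hcyc
      card_P := hPc
      relIndex_two := hrel
      y := y₃
      y_mem := hyP
      y_ord := hyo
      comm := commute_U_W M (t_mem_U D) hy
      card_cy := F.card_cy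
      inv_count := F.inv_count
      part_eq := hpart
      g₀ := B.g₀
      B := B.B
      R := B.R
      T₀ := B.T₀
      B_le := B.B_le
      R_le := B.R_le
      T₀_le := B.T₀_le
      card_R := B.card_R
      T₀_odd := B.T₀_odd
      card_T₀ := B.card_T₀
      T₀_y := fun h => (B.T₀_W h).symm ▸ hy
      B_normR := B.B_normR
      B_normH := B.B_normH
      H_index := B.H_index
      B_index := B.B_index
      t_mem_B := B.t_mem_B
      B_ab := B.B_ab
      T₀_fpf := B.T₀_fpf
      two_trans := B.two_trans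
      g₀_mem := B.g₀_mem
      g₀_notMem := B.g₀_notMem
      g₀_inv := B.g₀_inv
      cent_d := B.cent_d
      fix_d := B.fix_d
      class_mod := hclass
      separated := hsep }

end H70.CSy
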