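import Cfsg.Agent.H70.CSy.Setup
import Cfsg.Agent.H70.CSy.Torus
import Cfsg.Agent.H61.CSy.Late

/-!
# The semidihedral case of S4069 from its two remaining parts
-/

set_option autoImplicit false

open Cfsg Subgroup

namespace H70.CSy

universe u

/-- The semidihedral case from the solvable case and the model of `C(t)`. -/
theorem semi_of (hCore : CoreStmt.{u}) (hModel : ModelStmt.{u}) : H76.CSy.SemiStmt.{u} := by
  intro G _ _ H S hS hTorus hC
  obtain ⟨D, -⟩ := setup G H S hS
  by_cases hsol : Group.IsSolvable ↥(centralizer ({D.t} : Set G))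
  · exact hCore G D hsol hC
  · exact torus hModel H61.CSy.late G D hsol hTorus

end H70.CSy
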