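import Mathlib

/-!
# Derived elements act trivially on groups with cyclic layers
-/

set_option autoImplicit false

open Subgroup

namespace H70.CSy

variable {G : Type*} [Group G]

theorem commute_mulAut_of_cyclic (A : Type*) [Group A] [IsCyclic A] (a b : MulAut A) :
    a * b = b * a := by
  obtain ⟨g, hg⟩ := IsCyclic.exists_generator (α := A)
  obtain ⟨i, hi⟩ := mem_zpowers_iff.mp (hg (a g))
  obtain ⟨j, hj⟩ := mem_zpowers_iff.mp (hg (b g))
  refine MulEquiv.ext fun v => ?_
  obtain ⟨k, rfl⟩ := mem_zpowers_iff.mp (hg v)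
  show a (b (g ^ k)) = b (a (g ^ k))
  simp only [map_zpow, ← hi, ← hj, ← zpow_mul]
  congr 1
  ring

theorem layer_trivial {A : Type*} [Group A] [IsCyclic A] (f : G →* MulAut A) {k : G}
    (hk : k ∈ commutator G) : f k = 1 := by
  have : commutator G ≤ f.ker := by
    rw [commutator_def, commutator_le]
    intro a _ b _
    rw [MonoidHom.mem_ker, map_commutatorElement, commutatorElement_eq_one_iff_mul_comm]
    exact commute_mulAut_of_cyclic A _ _
  exact MonoidHom.mem_ker.mp (this hk)

/-- A derived `2`-element acting on an odd group with cyclic derived subgroup and abelianisation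
acts trivially. -/
theorem commute_of_layers {O : Subgroup G} [Finite O] (hcyc₁ : IsCyclic ↥(commutator ↥O))
    (hcyc₂ : IsCyclic (Abelianization ↥O)) (hodd : Odd (Nat.card O))
    {K : Subgroup G} (hK : K ≤ normalizer (O : Set G)) {k : K} (hk : k ∈ commutator ↥K)
    {j : ℕ} (hj : (k : G) ^ (2 ^ j) = 1) {o : G} (ho : o ∈ O) : (k : G) * o = o * k := by
  let φ : K →* MulAut O := (O.normalizerMonoidHom).comp (Subgroup.inclusion hK)
  let ψ₁ : MulAut O →* MulAut ↥(commutator ↥O) :=
    { toFun := fun a => (a.subgroupMap (commutator ↥O)).trans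
        (MulEquiv.subgroupCongr (Subgroup.characteristic_iff_map_eq.mp inferInstance a))
      map_one' := MulEquiv.ext fun v => Subtype.ext rfl
      map_mul' := fun a b => MulEquiv.ext fun v => Subtype.ext rfl }
  let ψ₂ : MulAut O →* MulAut (Abelianization ↥O) :=
    { toFun := fun a => a.abelianizationCongr
      map_one' := MulEquiv.ext fun v => by
        obtain ⟨w, rfl⟩ := QuotientGroup.mk_surjective v
        rfl
      map_mul' := fun a b => MulEquiv.ext fun v => by
        obtain ⟨w, rfl⟩ := QuotientGroup.mk_surjective v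
        rfl }
  set α := φ k with hα
  have h1 : ∀ v : ↥O, v ∈ commutator ↥O → α v = v := by
    intro v hv
    have h := layer_trivial (ψ₁.comp φ) hk
    exact congrArg (Subtype.val (p := fun w => w ∈ commutator ↥O)) (DFunLike.congr_fun h ⟨v, hv⟩)
  have h2 : ∀ v : ↥O, v⁻¹ * α v ∈ commutator ↥O := by
    intro v
    have h := DFunLike.congr_fun (layer_trivial (ψ₂.comp φ) hk) (Abelianization.of v)
    exact QuotientGroup.eq.mp h.symm
  have h3 : ∀ (v : ↥O) (m : ℕ), (α ^ m) v = v * (v⁻¹ * α v) ^ m := by
    intro v m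
    induction m with
    | zero => simp
    | succ m ih =>
      rw [pow_succ', MulAut.mul_apply, ih, map_mul, map_pow, h1 _ (h2 v), pow_succ', ← mul_assoc,
        ← mul_assoc, mul_inv_cancel, one_mul]
  have h4 : α ^ (2 ^ j) = 1 := by
    rw [hα, ← map_pow, show k ^ (2 ^ j) = 1 from Subtype.ext (by push_cast; exact hj), map_one]
  set v : ↥O := ⟨o, ho⟩
  have h5 : (v⁻¹ * α v) ^ (2 ^ j) = 1 := by
    have := h3 v (2 ^ j)
    rw [h4, MulAut.one_apply] at this
    exact mul_left_cancel (this.symm.trans (mul_one v).symm)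
  have h6 : v⁻¹ * α v = 1 := by
    rw [← orderOf_eq_one_iff]
    refine Nat.eq_one_of_dvd_coprimes ?_ (orderOf_dvd_of_pow_eq_one h5) (orderOf_dvd_natCard _)
    exact Nat.Coprime.pow_left _ hodd.coprime_two_left
  have h7 : (k : G) * o * (k : G)⁻¹ = o := congrArg Subtype.val (inv_mul_eq_one.mp h6).symm
  conv_rhs => rw [← h7]
  group

end H70.CSy
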