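import Cfsg.Agent.H70.CSy.Defs
import Cfsg.Agent.H70.CSy.Tools
import Cfsg.Agent.H70.CSy.SetupTools
import Cfsg.Agent.H1.Cores

/-!
# The setup of the semidihedral case of S4069
-/

set_option autoImplicit false

open Cfsg Subgroup

namespace H70.CSy

universe u

theorem exists_index_two {A : Type u} [CommGroup A] [Finite A] (h : ∃ v : A, orderOf v = 2) :
    ∃ L : Subgroup A, L.index = 2 := by
  obtain ⟨v, hv⟩ := h
  have hrange : (powMonoidHom 2 : A →* A).range ≠ ⊤ := by
    intro htop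
    have hsurj := MonoidHom.range_eq_top.mp htop
    have hinj : Function.Injective (powMonoidHom 2 : A →* A) := Finite.injective_iff_surjective.mpr hsurj
    have h1 : v = 1 := hinj (by
      show v ^ 2 = 1 ^ 2
      rw [one_pow, ← hv, pow_orderOf_eq_one])
    rw [h1, orderOf_one] at hv
    omega
  obtain ⟨L, hL, hle⟩ := (eq_top_or_exists_le_coatom (powMonoidHom 2 : A →* A).range).resolve_left hrange
  refine ⟨L, ?_⟩
  have hq : ∀ w : A ⧸ L, w ^ 2 = 1 := by
    intro w
    obtain ⟨a, rfl⟩ := QuotientGroup.mk_surjective w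
    rw [← QuotientGroup.mk_pow]
    exact (QuotientGroup.eq_one_iff _).mpr (hle ⟨a, rfl⟩)
  obtain ⟨a, ha⟩ : ∃ a, a ∉ L := by
    by_contra hc
    push Not at hc
    exact hL.1 ((eq_top_iff' L).mpr hc)
  rw [Subgroup.index_eq_two_iff]
  refine ⟨a, fun b => ?_⟩
  by_cases hb : b ∈ L
  · exact Or.inr ⟨hb, fun hh => ha ((Subgroup.mul_mem_cancel_left L hb).mp hh)⟩
  · refine Or.inl ⟨?_, hb⟩
    have htop : L ⊔ zpowers a = ⊤ := hL.2 _ (left_lt_sup.mpr fun hle' => ha (hle' (mem_zpowers a)))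
    obtain ⟨l, hl, z, hz, hlz⟩ := mem_sup_of_normal_left.mp (htop ▸ mem_top b)
    obtain ⟨k, rfl⟩ := mem_zpowers_iff.mp hz
    have ha2 : a ^ 2 ∈ L := hle ⟨a, rfl⟩
    rcases Int.even_or_odd k with ⟨d, rfl⟩ | ⟨d, rfl⟩
    · exfalso
      apply hb
      rw [← hlz, ← two_mul, zpow_mul, zpow_ofNat]
      exact mul_mem hl (zpow_mem ha2 d)
    · rw [← hlz, mul_assoc, zpow_add, zpow_one, mul_assoc, ← sq, zpow_mul, zpow_ofNat]
      exact mul_mem hl (mul_mem (zpow_mem ha2 d) ha2)

theorem exists_index_two_false {K : Type u} [Group K] [Finite K] (hno : ∀ L : Subgroup K, L.index ≠ 2)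
    {v : Abelianization K} (hv : orderOf v = 2) : False := by
  haveI : Fact (Nat.Prime 2) := ⟨Nat.prime_two⟩
  obtain ⟨P⟩ : Nonempty (Sylow 2 (Abelianization K)) := inferInstance
  obtain ⟨L, hL⟩ := exists_index_two (A := Abelianization K) ⟨v, hv⟩
  exact hno (L.comap Abelianization.of)
    (by rw [index_comap_of_surjective _ (QuotientGroup.mk_surjective), hL])

theorem setup : SetupStmt.{u} := by
  intro G _ _ H S hS
  classical
  obtain ⟨n, x, y, h⟩ := H67.exists_QD hS
  have hG : ∀ K : Subgroup G, K.index ≠ 2 := by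
    intro K hK
    have hn := Subgroup.normal_of_index_eq_two hK
    rcases H.simple.eq_bot_or_eq_top_of_normal K hn with hb | ht
    · rw [hb, index_bot] at hK
      have h2 : IsMulCommutative G := by
        have : Fact (Nat.Prime 2) := ⟨Nat.prime_two⟩
        have := isCyclic_of_prime_card (α := G) (p := 2) hK
        infer_instance
      exact H.nonab h2
    · rw [ht, index_top] at hK
      exact absurd hK (by norm_num)
  obtain ⟨hf2, hf4⟩ := h.fused_of_no_index_two hG
  set c : ↥(S : Subgroup G) := x ^ (2 * H67.qdQ n) with hcdef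
  set t : G := (c : G) with htdef
  have ht : orderOf t = 2 := (Subgroup.orderOf_coe _).trans h.orderOf_c
  have hone : H76.CSy.OneClass G t := fun s hs =>
    ((h.orderOf_two_G hs).elim id fun e => e.trans (hf2 0 (dvd_zero 2))).symm
  have hfour : ∀ g k : G, orderOf g = 4 → orderOf k = 4 → IsConj g k := by
    intro g k hg hk
    exact ((h.orderOf_four_G hg).elim id fun e => e.trans (hf4 1 (by omega))).trans
      (((h.orderOf_four_G hk).elim id fun e => e.trans (hf4 1 (by omega)))).symm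
  set C := centralizer ({t} : Set G) with hC
  have hne : C ≠ ⊤ := by
    intro htop
    have hz : t ∈ center G := Subgroup.mem_center_iff.mpr fun g =>
      mem_centralizer_singleton_iff.mp (htop ▸ mem_top g : g ∈ C)
    rcases H.simple.eq_bot_or_eq_top_of_normal _ (inferInstance : (center G).Normal) with hb | htp
    · rw [hb, mem_bot] at hz
      rw [hz, orderOf_one] at ht
      omega
    · exact H.nonab ⟨⟨fun a b => (Subgroup.mem_center_iff.mp (htp ▸ mem_top b) a)⟩⟩
  have hle : (S : Subgroup G) ≤ C := fun s hs =>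
    mem_centralizer_singleton_iff.mpr (h.coe_commute_c s hs)
  set R : Sylow 2 ↥C := S.subtype hle with hR
  let e : ↥(S : Subgroup G) ≃* ↥(R : Subgroup ↥C) := (Subgroup.subgroupOfEquivOfLe hle).symm
  have h' : H67.QD n (e x) (e y) := h.transport e
  have hce : ∀ w : ↥(S : Subgroup G), (((e w : ↥(R : Subgroup ↥C)) : ↥C) : G) = (w : G) :=
    fun w => rfl
  have hy : ∀ i : ℤ, (((e x ^ i * e y : ↥(R : Subgroup ↥C)) : ↥C) : G)
      = ((x ^ i * y : ↥(S : Subgroup G)) : G) := fun i => by rw [← map_zpow, ← map_mul, hce]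
  have hp : ∀ i : ℤ, (((e x ^ i : ↥(R : Subgroup ↥C)) : ↥C) : G)
      = ((x ^ i : ↥(S : Subgroup G)) : G) := fun i => by rw [← map_zpow, hce]
  have hs2 : h'.SplitTwo := by
    intro i hi hconj
    obtain ⟨g, hg⟩ := isConj_iff.mp hconj.symm
    have e1 : g * ((e x ^ (2 * H67.qdQ n) : ↥(R : Subgroup ↥C)) : ↥C) * g⁻¹
        = ((e x ^ (2 * H67.qdQ n) : ↥(R : Subgroup ↥C)) : ↥C) := by
      apply Subtype.ext
      simp only [Subgroup.coe_mul, Subgroup.coe_inv, hp]
      show (g : G) * t * (g : G)⁻¹ = t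
      rw [mem_centralizer_singleton_iff.mp g.2, mul_inv_cancel_right]
    exact h'.zpow_mul_y_ne i (2 * H67.qdQ n) (Subtype.ext (hg.symm.trans e1))
  have hf4' : h'.FusedFour := by
    intro i hi
    obtain ⟨g, hg⟩ := isConj_iff.mp (hf4 i hi)
    have hgC : g ∈ C := by
      rw [hC, mem_centralizer_singleton_iff]
      have hsq : ((x ^ i * y : ↥(S : Subgroup G)) : G) ^ 2 = t := by
        rw [← Subgroup.coe_pow, h.y_form_not_even_sq i hi]
      have hqsq : ((x ^ H67.qdQ n : ↥(S : Subgroup G)) : G) ^ 2 = t := by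
        rw [← Subgroup.coe_pow, ← zpow_natCast, ← zpow_mul, mul_comm]
        rfl
      have e1 : g * t * g⁻¹ = t := by rw [← hsq, ← conj_pow, hg, hqsq, hsq]
      calc g * t = g * t * g⁻¹ * g := by group
        _ = t * g := by rw [e1]
    refine isConj_iff.mpr ⟨⟨g, hgC⟩, Subtype.ext ?_⟩
    simp only [Subgroup.coe_mul, Subgroup.coe_inv, hy, hp]
    exact hg
  obtain ⟨K₀, hK₀n, hK₀i, hout⟩ := h'.exists_K_splitTwo hs2
  obtain ⟨K₁, hK₁n, hK₁i, -, hK₁no⟩ := h'.case_two_six hs2 hf4'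
  have hK01 : K₁ = K₀ := by
    have hle' : K₁ ≤ K₀ := by
      by_contra hnle
      refine hK₁no (K₀.subgroupOf K₁) ?_
      have hd : K₀.relIndex K₁ ∣ 2 := hK₀i ▸ Subgroup.relIndex_dvd_index_of_normal K₀ K₁
      rcases (Nat.dvd_prime Nat.prime_two).mp hd with h1 | h2
      · exact absurd (relIndex_eq_one.mp h1) hnle
      · exact h2
    refine le_antisymm hle' ?_
    have h3 := Subgroup.relIndex_mul_index hle'
    rw [hK₀i, hK₁i] at h3
    exact relIndex_eq_one.mp (by omega)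
  subst hK01
  set K : Subgroup G := K₁.map C.subtype with hKdef
  have hKC : K ≤ C := map_subtype_le _
  have hKmem : ∀ (g : G) (hg : g ∈ C), g ∈ K ↔ (⟨g, hg⟩ : ↥C) ∈ K₁ := fun g hg =>
    ⟨fun ⟨w, hw, hwe⟩ => by rwa [show (⟨g, hg⟩ : ↥C) = w from Subtype.ext hwe.symm],
      fun hw => ⟨_, hw, rfl⟩⟩
  have hKn : C ≤ normalizer (K : Set G) := by
    intro g hg
    rw [mem_normalizer_iff]
    intro w
    constructor
    · rintro ⟨v, hv, rfl⟩
      exact ⟨⟨g, hg⟩ * v * ⟨g, hg⟩⁻¹, hK₁n.conj_mem v hv _, rfl⟩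
    · rintro ⟨v, hv, hve⟩
      refine ⟨⟨g, hg⟩⁻¹ * v * ⟨g, hg⟩⁻¹⁻¹, hK₁n.conj_mem v hv _, ?_⟩
      simp only [inv_inv, map_mul, map_inv, hve]
      simp [mul_assoc]
  have hsK : ∀ s : ↥(S : Subgroup G), ((s : G) ∈ K ↔ ((e s : ↥(R : Subgroup ↥C)) : ↥C) ∈ K₁) :=
    fun s => hKmem _ (hle s.2)
  have hxy_odd : ∀ i : ℤ, ¬ 2 ∣ i → ((x ^ i * y : ↥(S : Subgroup G)) : G) ∈ K := by
    intro i hi
    have hq : ((x ^ H67.qdQ n : ↥(S : Subgroup G)) : G) ∈ K := by
      obtain ⟨r, hr⟩ := h.q_two_dvd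
      rw [hsK, map_zpow, hr, mul_comm, zpow_mul, zpow_ofNat, Subgroup.coe_pow]
      exact Subgroup.sq_mem_of_index_two hK₁i _
    rw [hsK] at hq ⊢
    rw [map_mul, map_zpow]
    rw [map_zpow] at hq
    obtain ⟨g, hg⟩ := isConj_iff.mp (hf4' i hi)
    have h2 := hK₁n.conj_mem _ hq g⁻¹
    rwa [← hg, show g⁻¹ * (g * ((e x ^ i * e y : ↥(R : Subgroup ↥C)) : ↥C) * g⁻¹) * g⁻¹⁻¹ =
      ((e x ^ i * e y : ↥(R : Subgroup ↥C)) : ↥C) by group] at h2
  have hxy_even : ∀ i : ℤ, 2 ∣ i → ((x ^ i * y : ↥(S : Subgroup G)) : G) ∉ K := by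
    intro i hi hm
    rw [hsK, map_mul, map_zpow] at hm
    exact hout i hi hm
  have hx : ∀ i : ℤ, (((x ^ i : ↥(S : Subgroup G)) : G) ∈ K ↔ 2 ∣ i) := by
    intro i
    have hi2 : ((x ^ i * y : ↥(S : Subgroup G)) : G) ∈ K ↔
        (((x ^ i : ↥(S : Subgroup G)) : G) ∈ K ↔ ((y : ↥(S : Subgroup G)) : G) ∈ K) := by
      rw [hsK, hsK, hsK, map_mul, Subgroup.coe_mul]
      exact Subgroup.mul_mem_iff_of_index_two hK₁i
    have hy0 : ((y : ↥(S : Subgroup G)) : G) ∉ K := by simpa using hxy_even 0 (dvd_zero 2)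
    by_cases hi : 2 ∣ i
    · have := hxy_even i hi
      tauto
    · have := hxy_odd i hi
      tauto
  have htK : t ∈ K := (hx _).mpr (dvd_mul_right 2 _)
  have hKi : K.relIndex C = 2 := by
    rw [hKdef, Subgroup.relIndex, subgroupOf,
      comap_map_eq_self_of_injective C.subtype_injective, hK₁i]
  have hKno : ∀ L : Subgroup ↥K, L.index ≠ 2 := fun L hL =>
    hK₁no (L.comap (K₁.equivMapOfInjective C.subtype C.subtype_injective).toMonoidHom)
      (by rw [index_comap_of_surjective _ (MulEquiv.surjective _), hL])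
  have : Fact (Nat.Prime 2) := ⟨Nat.prime_two⟩
  have hKu : ∀ k ∈ K, orderOf k = 2 → k = t := by
    intro k hk hko
    have hkC := hKC hk
    have hpg : IsPGroup 2 (zpowers (⟨k, hkC⟩ : ↥C)) :=
      IsPGroup.of_card (n := 1) (by rw [Nat.card_zpowers, Subgroup.orderOf_mk, hko, pow_one])
    obtain ⟨a, -, ha⟩ := H67.conj_into_sylow R ⊤ (zpowers (⟨k, hkC⟩ : ↥C)) le_top hpg le_top
    have hmem := ha _ (mem_zpowers (⟨k, hkC⟩ : ↥C))
    have hK' := hK₁n.conj_mem _ ((hKmem k hkC).mp hk) a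
    set s : ↥(S : Subgroup G) := e.symm ⟨_, hmem⟩ with hsdef
    have hse : ((e s : ↥(R : Subgroup ↥C)) : ↥C) = a * ⟨k, hkC⟩ * a⁻¹ := by
      rw [hsdef, MulEquiv.apply_symm_apply]
    have hs : orderOf s = 2 := by
      calc orderOf s = orderOf (e s) := (e.orderOf_eq s).symm
        _ = orderOf ((e s : ↥(R : Subgroup ↥C)) : ↥C) := (Subgroup.orderOf_coe _).symm
        _ = orderOf (⟨k, hkC⟩ : ↥C) := by
            rw [hse]
            exact orderOf_injective (MulAut.conj a).toMonoidHom (MulAut.conj a).injective _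
        _ = 2 := by rw [Subgroup.orderOf_mk, hko]
    rcases h.orderOf_two_cases hs with hs' | ⟨i, hi, hs'⟩
    · have h1 : (a : G) * k * (a : G)⁻¹ = t := by
        have := congrArg Subtype.val hse
        rw [hce, hs'] at this
        exact this.symm
      have hac := mem_centralizer_singleton_iff.mp a.2
      calc k = (a : G)⁻¹ * ((a : G) * k * (a : G)⁻¹) * a := by group
        _ = (a : G)⁻¹ * (t * a) := by rw [h1, mul_assoc]
        _ = t := by rw [← hac, inv_mul_cancel_left]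
    · exfalso
      refine hxy_even i hi ?_
      rw [← hs', hsK, hse]
      exact hK'
  set O₁ := Cfsg.oddCore ↥C with hO₁
  have hO₁n : O₁.Normal := H1.pPrimeCore_normal' 2 ↥C
  set O : Subgroup G := O₁.map C.subtype with hOdef
  have hOC : O ≤ C := map_subtype_le _
  have hO₁odd : Odd (Nat.card O₁) :=
    Nat.coprime_two_right.mp (H1.card_pPrimeCore_coprime 2 ↥C)
  have hOodd : Odd (Nat.card O) := by
    rwa [hOdef, card_map_of_injective C.subtype_injective]
  have hOn : C ≤ normalizer (O : Set G) := by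
    intro g hg
    rw [mem_normalizer_iff]
    intro w
    constructor
    · rintro ⟨v, hv, rfl⟩
      exact ⟨⟨g, hg⟩ * v * ⟨g, hg⟩⁻¹, hO₁n.conj_mem v hv _, rfl⟩
    · rintro ⟨v, hv, hve⟩
      refine ⟨⟨g, hg⟩⁻¹ * v * ⟨g, hg⟩⁻¹⁻¹, hO₁n.conj_mem v hv _, ?_⟩
      simp only [inv_inv, map_mul, map_inv, hve]
      simp [mul_assoc]
  have hOmax : ∀ N : Subgroup G, N ≤ C → C ≤ normalizer (N : Set G) → Odd (Nat.card N) → N ≤ O := by
    intro N hNC hNn hNo
    have : (N.subgroupOf C).Normal := (Subgroup.normal_subgroupOf_iff_le_normalizer hNC).mpr hNn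
    have hle' : N.subgroupOf C ≤ O₁ := H1.le_pPrimeCore
      (by rw [Nat.card_congr (subgroupOfEquivOfLe hNC).toEquiv]; exact Nat.coprime_two_right.mpr hNo)
    intro w hw
    exact ⟨⟨w, hNC hw⟩, hle' hw, rfl⟩
  have hOK : O ≤ K := by
    rintro _ ⟨v, hv, rfl⟩
    refine ⟨v, ?_, rfl⟩
    have hvo : Odd (orderOf v) := hO₁odd.of_dvd_nat (orderOf_dvd_natCard _ hv)
    obtain ⟨m, hm⟩ := hvo
    have : v = (v ^ (m + 1)) ^ 2 := by
      rw [← pow_mul, show (m + 1) * 2 = orderOf v + 1 by omega, pow_succ, pow_orderOf_eq_one, one_mul]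
    rw [this]
    exact Subgroup.sq_mem_of_index_two hK₁i _
  have hZ : IsZGroup O := isZGroup_of_odd H.odd hOodd
  have htwo : ∀ k ∈ K, (∃ j : ℕ, orderOf k = 2 ^ j) → ∀ o ∈ O, k * o = o * k := by
    intro k hk ⟨j, hj⟩ o ho
    have hkj : k ^ (2 ^ j) = 1 := hj ▸ pow_orderOf_eq_one k
    have hcomm : (⟨k, hk⟩ : ↥K) ∈ commutator ↥K := by
      have hab : Odd (Nat.card (Abelianization ↥K)) := by
        rw [← Nat.not_even_iff_odd, even_iff_two_dvd]
        intro h2
        obtain ⟨v, hv⟩ := exists_prime_orderOf_dvd_card' 2 h2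
        exact exists_index_two_false hKno hv
      have h1 : (Abelianization.of (⟨k, hk⟩ : ↥K)) ^ (2 ^ j) = 1 := by
        rw [← map_pow, show (⟨k, hk⟩ : ↥K) ^ (2 ^ j) = 1 from Subtype.ext (by push_cast; exact hkj),
          map_one]
      have h2 : Abelianization.of (⟨k, hk⟩ : ↥K) = 1 := by
        rw [← orderOf_eq_one_iff]
        exact Nat.eq_one_of_dvd_coprimes (Nat.Coprime.pow_left _ hab.coprime_two_left)
          (orderOf_dvd_of_pow_eq_one h1) (orderOf_dvd_natCard _)
      exact (QuotientGroup.eq_one_iff _).mp h2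
    exact commute_of_layers (IsZGroup.isCyclic_commutator ↥O) inferInstance hOodd
      (hKC.trans hOn) (k := ⟨k, hk⟩) hcomm (j := j) hkj ho
  have hcS := cent_sylow_two H S hS
  have hfix : ∀ o ∈ O, (y : G) * o * (y : G)⁻¹ = o → o = 1 := by
    intro o ho hyo
    have hyo' : (y : G) * o = o * (y : G) := by
      conv_rhs => rw [← hyo]
      group
    refine hcS o ?_ (hOodd.of_dvd_nat (Subgroup.orderOf_dvd_natCard _ ho))
    rw [mem_centralizer_iff]
    intro s hs
    have hK2 : ∀ w : ↥(S : Subgroup G), (w : G) ∈ K → (w : G) * o = o * (w : G) := by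
      intro w hw
      obtain ⟨j, hj⟩ := (IsPGroup.iff_orderOf.mp S.2) w
      exact htwo _ hw ⟨j, (Subgroup.orderOf_coe w).trans hj⟩ o ho
    by_cases hsK' : s ∈ K
    · exact hK2 ⟨s, hs⟩ hsK'
    · have hmem : ((⟨s, hs⟩ * y : ↥(S : Subgroup G)) : G) ∈ K := by
        rw [hsK, map_mul, Subgroup.coe_mul, Subgroup.mul_mem_iff_of_index_two hK₁i, ← hsK, ← hsK]
        have hy0 : ((y : ↥(S : Subgroup G)) : G) ∉ K := by simpa using hxy_even 0 (dvd_zero 2)
        tauto
      have h3 := hK2 _ hmem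
      rw [Subgroup.coe_mul] at h3
      calc s * o = s * (y : G) * ((y : G)⁻¹ * o) := by group
        _ = s * (y : G) * (o * (y : G)⁻¹) := by
            rw [(show Commute (y : G) o from hyo').inv_left.eq]
        _ = (s * (y : G) * o) * (y : G)⁻¹ := by group
        _ = o * (s * (y : G)) * (y : G)⁻¹ := by rw [show s * (y : G) * o = o * (s * (y : G)) from h3]
        _ = o * s := by group
  have hyn : (y : G) ∈ normalizer (O : Set G) := hOn (hle y.2)
  let α : ↥O →* ↥O := ((O.normalizerMonoidHom) ⟨(y : G), hyn⟩).toMonoidHom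
  have hα : ∀ v : ↥O, ((α v : ↥O) : G) = (y : G) * v * (y : G)⁻¹ := fun v => rfl
  have hfpf : MonoidHom.FixedPointFree α := fun v hv =>
    Subtype.ext (hfix v v.2 ((hα v).symm.trans (congrArg Subtype.val hv)))
  have hinvol : Function.Involutive α := by
    intro v
    apply Subtype.ext
    rw [hα, hα]
    have hy2 : (y : G) * (y : G) = 1 := congrArg Subtype.val h.y_mul_y
    calc (y : G) * ((y : G) * v * (y : G)⁻¹) * (y : G)⁻¹
        = ((y : G) * y) * v * ((y : G) * y)⁻¹ := by group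
      _ = v := by rw [hy2]; group
  have hyinv : ∀ o ∈ O, (y : G) * o * (y : G)⁻¹ = o⁻¹ := fun o ho =>
    congrArg Subtype.val (congrFun (hfpf.coe_eq_inv_of_involutive hinvol) ⟨o, ho⟩)
  have hOcyc : IsCyclic O := by
    have hcomm : ∀ a b : ↥O, a * b = b * a := hfpf.commute_all_of_involutive hinvol
    letI : CommGroup ↥O := { (inferInstance : Group ↥O) with mul_comm := hcomm }
    infer_instance
  refine ⟨
    { hyp := H, S := S, n := n, x := x, y := y, qd := h, t := t, t_eq := ?_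
      t_mem := c.2, t_ord := ht, one := hone, four := hfour, ne_top := hne, S_le := hle
      two_part := ?_, cent_S := hcS, O := O, O_le := hOC, O_norm := hOn, O_odd := hOodd
      O_max := hOmax, O_cyc := hOcyc, y_inv := hyinv, K := K, K_le := hKC, K_norm := hKn
      K_index := hKi, O_le_K := hOK, t_mem_K := htK, K_no_two := hKno, mem_K_x := hx
      mem_K_y := fun i => ⟨fun hm hi => hxy_even i hi hm, hxy_odd i⟩, K_unique := hKu
      two_comm := htwo }, rfl⟩
  · rw [htdef, hcdef, h.two_q, Subgroup.coe_zpow, ← zpow_natCast]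
    push_cast
    rfl
  · have h1 := S.card_eq_multiplicity
    rw [h.card_eq] at h1
    exact (Nat.pow_right_injective le_rfl h1).symm
end H70.CSy
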