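import Cfsg.Agent.H70.CSy.Cent
import Cfsg.Agent.H70.CSy.LateDefs
import Cfsg.Agent.H76.CSy.PSL
import Cfsg.Agent.H79.CoprimeGen
import Cfsg.Agent.H59.OneComp.Basic

/-!
# `3 ∣ T` and the centralisers of elements of the torus in the semidihedral case of S4069
-/

set_option autoImplicit false
set_option linter.style.haveILetI false

open Cfsg Subgroup

namespace H70.CSy

universe u

variable {G : Type u} [Group G] [Finite G]

theorem not_three_dvd_nonsolvable (H : H76.CSy.Hyp G) {N : Subgroup G} (hne : N ≠ ⊤)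
    (hns : ¬ Group.IsSolvable ↥N) : 3 ∣ Nat.card N := by
  obtain ⟨G₀, -, -, X, L, -, -, -, -, -, -, -, s, hs, hs5, hL⟩ := H.below N hne hns
  have := hs
  have h2 := (H76.CSy.psl_zmod_card (s := s) hs5).1
  have h3 : 3 ∣ Nat.card (Matrix.ProjectiveSpecialLinearGroup (Fin 2) (ZMod s)) := by
    have h6 : 3 ∣ s * (s ^ 2 - 1) := by
      by_cases h : 3 ∣ s
      · exact h.mul_right _
      · refine Dvd.dvd.mul_left ?_ _
        have : s ^ 2 % 3 = 1 := by
          rw [Nat.pow_mod]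
          rcases (show s % 3 = 1 ∨ s % 3 = 2 by omega) with e | e <;> rw [e]
        have h1 : 1 ≤ s ^ 2 := Nat.one_le_pow _ _ (by omega)
        omega
    rw [← h2] at h6
    exact (Nat.Coprime.dvd_of_dvd_mul_left (by norm_num) h6)
  have hLN : Nat.card L ∣ Nat.card N :=
    (Subgroup.card_subgroup_dvd_card L).trans (Subgroup.card_subgroup_dvd_card G₀)
  refine dvd_trans (h3.trans ?_) hLN
  rcases hL with ⟨⟨e⟩⟩ | ⟨⟨e⟩⟩
  · rw [Nat.card_congr e.toEquiv]
  · rw [Nat.card_congr e.toEquiv]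
    exact Subgroup.card_quotient_dvd_card _

theorem cent_ne_top (H : H76.CSy.Hyp G) {d : G} (hd : d ≠ 1) :
    centralizer ({d} : Set G) ≠ ⊤ := by
  intro h
  have := H.simple
  have hc : d ∈ center G := mem_center_iff.mpr fun g =>
    mem_centralizer_singleton_iff.mp (h ▸ mem_top g)
  rcases H.simple.eq_bot_or_eq_top_of_normal (center G) inferInstance with e | e
  · exact hd (mem_bot.mp (e ▸ hc))
  · exact H.nonab ⟨⟨fun a b => (mem_center_iff.mp (e ▸ mem_top a) b).symm⟩⟩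

theorem orderOf_conj' (g a : G) : orderOf (g * a * g⁻¹) = orderOf a :=
  orderOf_injective (MulAut.conj g).toMonoidHom (MulAut.conj g).injective a

theorem commute_of_conj_eq' {g a : G} (h : g * a * g⁻¹ = a) : Commute g a := by
  show g * a = a * g
  conv_rhs => rw [← h]
  group

theorem conj_eq_of_commute' {g a : G} (h : Commute g a) : g * a * g⁻¹ = a := by
  rw [h.eq, mul_inv_cancel_right]

theorem mem_normalizer_zpowers' {g d : G} (h : g * d * g⁻¹ ∈ zpowers d) :
    g ∈ normalizer (zpowers d : Set G) := by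
  have heq : (zpowers d).map (MulAut.conj g).toMonoidHom = zpowers d := by
    refine eq_of_le_of_card_ge ?_ (le_of_eq (card_map_of_injective (MulAut.conj g).injective).symm)
    rintro _ ⟨e, he, rfl⟩
    obtain ⟨k, rfl⟩ := mem_zpowers_iff.mp he
    show g * d ^ k * g⁻¹ ∈ zpowers d
    rw [← conj_zpow]
    exact zpow_mem h k
  exact exists_moving.mem_normalizer_iff_of_fintype_zpowers heq

/-- Subgroups of equal order of a cyclic Sylow subgroup. -/
theorem zpowers_eq_of_sylow {p : ℕ} [Fact p.Prime] (P : Sylow p G) [IsCyclic ↥(P : Subgroup G)]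
    {a b : G} (ha : a ∈ (P : Subgroup G)) (hb : b ∈ (P : Subgroup G))
    (h : orderOf a = orderOf b) : zpowers a = zpowers b := by
  have := cyclic_eq_of_card (A := ↥(P : Subgroup G)) (zpowers ⟨a, ha⟩) (zpowers ⟨b, hb⟩)
    (by rw [Nat.card_zpowers, Nat.card_zpowers, Subgroup.orderOf_mk, Subgroup.orderOf_mk, h])
  have h2 := congrArg (Subgroup.map (P : Subgroup G).subtype) this
  rwa [MonoidHom.map_zpowers, MonoidHom.map_zpowers] at h2

variable {D : Setup G} (M : Model D)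

theorem one_lt_T : 1 < M.T := by
  have h := M.hT
  have h5 := M.hr5
  rcases M.hη with e | e <;> rw [e] at h <;> omega

theorem T_coprime : M.T.Coprime M.T' := by
  refine Nat.coprime_of_dvd fun q hq h1 h2 => ?_
  have hodd : q ≠ 2 := fun e => M.T_odd.not_two_dvd_nat (e ▸ h1)
  have hq2 : (q : ℤ) ∣ 2 * (2 ^ (D.n - 1) * (M.T' : ℤ) - 2 * (M.T : ℤ)) :=
    Dvd.dvd.mul_left (dvd_sub (Dvd.dvd.mul_left (Int.natCast_dvd_natCast.mpr h2) _)
      (Dvd.dvd.mul_left (Int.natCast_dvd_natCast.mpr h1) _)) _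
  rw [← M.hT, ← M.hT'] at hq2
  have h4 : (q : ℤ) ∣ 4 := by
    rcases M.hη with e | e <;> rw [e] at hq2
    · convert hq2 using 1; ring
    · refine dvd_neg.mp ?_
      simpa [show (2 : ℤ) * ((M.r : ℤ) + -1 - ((M.r : ℤ) - -1)) = -4 by ring] using hq2
  have := hq.dvd_of_dvd_pow (m := 2) (n := 2) (Int.natCast_dvd_natCast.mp (by simpa using h4))
  exact hodd ((Nat.prime_dvd_prime_iff_eq hq Nat.prime_two).mp this)

theorem three_dvd_T_or : 3 ∣ M.T ∨ 3 ∣ M.T' := by
  have hr3 : ¬ 3 ∣ M.r := fun h => by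
    have := (Nat.prime_dvd_prime_iff_eq Nat.prime_three M.hr).mp h
    have := M.hr5
    omega
  have h1 := M.hT
  have h2 := M.hT'
  have hr3' : ¬ (3 : ℤ) ∣ (M.r : ℤ) := by exact_mod_cast hr3
  have h : (3 : ℤ) ∣ (M.r : ℤ) - M.η ∨ (3 : ℤ) ∣ (M.r : ℤ) + M.η := by
    rcases (show M.r % 3 = 1 ∨ M.r % 3 = 2 by omega) with e' | e' <;>
      rcases M.hη with e | e <;> rw [e]
    · left; omega
    · right; omega
    · right; omega
    · left; omega
  have hp : Prime (3 : ℤ) := Int.prime_three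
  rcases h with h | h
  · left
    rw [h1] at h
    rcases hp.dvd_or_dvd h with a | a
    · omega
    · exact_mod_cast a
  · right
    rw [h2] at h
    rcases hp.dvd_or_dvd h with a | a
    · have := hp.dvd_of_dvd_pow a
      omega
    · exact_mod_cast a

theorem T_three : 3 ∣ M.T := by
  classical
  rcases three_dvd_T_or M with h | h3T'
  · exact h
  exfalso
  have : Fact (Nat.Prime 2) := ⟨Nat.prime_two⟩
  have : Fact (Nat.Prime 3) := ⟨Nat.prime_three⟩
  -- an element of order three in `C(t)`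
  obtain ⟨⟨d, hdC⟩, hd⟩ := exists_prime_orderOf_dvd_card' (G := centralizer ({D.t} : Set G)) 3 (by
    rw [M.card_ct]
    refine Dvd.dvd.mul_right (Dvd.dvd.mul_left ?_ _) _
    have hr3 : ¬ 3 ∣ M.r := fun h => by
      have := (Nat.prime_dvd_prime_iff_eq Nat.prime_three M.hr).mp h
      have := M.hr5
      omega
    have : M.r ^ 2 % 3 = 1 := by
      rw [Nat.pow_mod]
      rcases (show M.r % 3 = 1 ∨ M.r % 3 = 2 by omega) with e | e <;> rw [e]
    have h1 : 1 ≤ M.r ^ 2 := Nat.one_le_pow _ _ M.hr.pos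
    omega)
  rw [Subgroup.orderOf_mk] at hd
  have hd1 : d ≠ 1 := fun e => by rw [e, orderOf_one] at hd; omega
  obtain ⟨-, ⟨c, -, hcd, hco⟩, -⟩ := M.cent_T' d hdC (hd ▸ Nat.prime_three) (hd ▸ h3T')
  set E := centralizer ({d} : Set G) with hE
  have hcE : c ∈ E := mem_centralizer_singleton_iff.mpr hcd.eq
  obtain ⟨P, hP⟩ := (IsPGroup.of_card (n := D.n) (G := zpowers (⟨c, hcE⟩ : ↥E))
    (by rw [Nat.card_zpowers, Subgroup.orderOf_mk, hco]) : IsPGroup 2 _).exists_le_sylow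
  -- the Sylow subgroup of `C(d)` is cyclic
  set P' : Subgroup G := (P : Subgroup ↥E).map E.subtype with hP'
  have hP'2 : IsPGroup 2 P' := P.2.map _
  obtain ⟨j, hj⟩ := IsPGroup.iff_card.mp hP'2
  have hcardP : Nat.card P' = Nat.card (P : Subgroup ↥E) := card_map_of_injective E.subtype_injective
  have hPc : (P : Subgroup ↥E) = zpowers ⟨c, hcE⟩ := by
    refine (eq_of_le_of_card_ge hP ?_).symm
    rw [Nat.card_zpowers, Subgroup.orderOf_mk, hco, ← hcardP, hj]
    refine Nat.pow_le_pow_right two_pos ?_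
    have hle : j ≤ D.n + 1 := by
      rw [← D.two_part]
      exact (Nat.prime_two.pow_dvd_iff_le_factorization Nat.card_pos.ne').mp
        (hj ▸ card_subgroup_dvd_card P')
    by_contra hc
    obtain ⟨S', hS'⟩ := hP'2.exists_le_sylow
    obtain ⟨g, hg⟩ := MulAction.exists_smul_eq G D.S S'
    have hS'P : (S' : Subgroup G) = P' := (eq_of_le_of_card_ge hS' (by
      rw [S'.card_eq_multiplicity, D.two_part, hj]
      exact Nat.pow_le_pow_right two_pos (by omega))).symm
    have hcen : g⁻¹ * d * g ∈ centralizer ((D.S : Subgroup G) : Set G) := by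
      rw [mem_centralizer_iff]
      intro s hs
      have h1 : g * s * g⁻¹ ∈ P' := by
        rw [← hS'P, ← hg]
        exact Subgroup.smul_mem_pointwise_smul _ (MulAut.conj g) _ hs
      obtain ⟨⟨e, heE⟩, -, he⟩ := h1
      have he' : e = g * s * g⁻¹ := he
      have h2 := mem_centralizer_singleton_iff.mp (he' ▸ heE)
      calc s * (g⁻¹ * d * g) = g⁻¹ * (g * s * g⁻¹ * d) * g := by group
        _ = g⁻¹ * (d * (g * s * g⁻¹)) * g := by rw [h2]
        _ = g⁻¹ * d * g * s := by group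
    have h0 := D.cent_S _ hcen (by
      have := orderOf_conj' g⁻¹ d
      rw [inv_inv] at this
      rw [this, hd]
      decide)
    exact hd1 (by simpa using congrArg (fun z => g * z * g⁻¹) h0 |>.symm.trans (by group) |>.symm)
  have hPcyc : IsCyclic ↥(P : Subgroup ↥E) := by
    rw [hPc]
    infer_instance
  have hmin : (Nat.card ↥E).minFac = 2 := Nat.minFac_eq_two_iff _ |>.mpr (by
    refine dvd_trans ?_ (card_subgroup_dvd_card (P : Subgroup ↥E))
    rw [hPc, Nat.card_zpowers, Subgroup.orderOf_mk, hco]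
    exact dvd_pow_self 2 (by have := D.qd.three_le; omega))
  have hNC : normalizer ((P : Subgroup ↥E) : Set ↥E) ≤ centralizer ((P : Subgroup ↥E) : Set ↥E) :=
    hPcyc.normalizer_le_centralizer hmin
  set f := MonoidHom.transferSylow P hNC with hf
  -- an element of order `p` of `W` conjugated into `C(d)`
  set p := M.T.minFac with hp
  have hpp : p.Prime := Nat.minFac_prime (one_lt_T M).ne'
  have : Fact p.Prime := ⟨hpp⟩
  have hp2 : p ≠ 2 := fun e => M.T_odd.not_two_dvd_nat (e ▸ Nat.minFac_dvd _)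
  obtain ⟨⟨y₀, hy₀W⟩, hy₀⟩ := exists_prime_orderOf_dvd_card' (G := M.W) p
    (M.card_W ▸ Nat.minFac_dvd _)
  rw [Subgroup.orderOf_mk] at hy₀
  have hy₀1 : y₀ ≠ 1 := fun e => hpp.one_lt.ne' (by rw [← hy₀, e, orderOf_one])
  obtain ⟨h, -, -, -, hW, k, hk, hko⟩ := exists_h M
  set d' := h ^ 3 ^ (k - 1) with hd'
  have hd'o : orderOf d' = 3 := by
    rw [hd', orderOf_pow, hko, Nat.gcd_eq_right (pow_dvd_pow 3 (by omega)),
      Nat.pow_div (by omega) (by norm_num), show k - (k - 1) = 1 by omega, pow_one]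
  have hd'y : Commute d' y₀ := Commute.pow_left (hW _ hy₀W) _
  obtain ⟨S₁, hS₁⟩ := (IsPGroup.of_card (n := 1) (G := zpowers d)
    (by rw [Nat.card_zpowers, hd, pow_one]) : IsPGroup 3 _).exists_le_sylow
  obtain ⟨S₂, hS₂⟩ := (IsPGroup.of_card (n := 1) (G := zpowers d')
    (by rw [Nat.card_zpowers, hd'o, pow_one]) : IsPGroup 3 _).exists_le_sylow
  obtain ⟨g, hg⟩ := MulAction.exists_smul_eq G S₂ S₁
  have := D.hyp.odd 3 Nat.prime_three (by norm_num) S₁
  have hd'S : g * d' * g⁻¹ ∈ (S₁ : Subgroup G) := by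
    rw [← hg]
    exact Subgroup.smul_mem_pointwise_smul _ (MulAut.conj g) _ (hS₂ (mem_zpowers d'))
  have hzp : zpowers (g * d' * g⁻¹) = zpowers d :=
    zpowers_eq_of_sylow S₁ hd'S (hS₁ (mem_zpowers d)) (by rw [orderOf_conj', hd'o, hd])
  set y₁ := g * y₀ * g⁻¹ with hy₁
  have hy₁o : orderOf y₁ = p := by rw [hy₁, orderOf_conj', hy₀]
  have hy₁E : y₁ ∈ E := by
    obtain ⟨i, hi⟩ := mem_zpowers_iff.mp (show d ∈ zpowers (g * d' * g⁻¹) from hzp ▸ mem_zpowers d)
    rw [hE, mem_centralizer_singleton_iff, ← hi, conj_zpow, hy₁]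
    calc g * y₀ * g⁻¹ * (g * d' ^ i * g⁻¹) = g * (y₀ * d' ^ i) * g⁻¹ := by group
      _ = g * (d' ^ i * y₀) * g⁻¹ := by rw [(hd'y.symm.zpow_right i).eq]
      _ = g * d' ^ i * g⁻¹ * (g * y₀ * g⁻¹) := by group
  set N := f.ker with hN
  have hyN : (⟨y₁, hy₁E⟩ : ↥E) ∈ N := by
    rw [MonoidHom.mem_ker]
    refine orderOf_eq_one_iff.mp (Nat.eq_one_of_dvd_coprimes (a := p) (b := 2 ^ j) ?_ ?_ ?_)
    · exact ((Nat.coprime_primes hpp Nat.prime_two).mpr hp2).pow_right j
    · rw [← hy₁o, ← Subgroup.orderOf_mk y₁ hy₁E]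
      exact orderOf_map_dvd f _
    · rw [← hj, hcardP]
      exact orderOf_dvd_natCard _
  obtain ⟨Q, hQ⟩ := (IsPGroup.of_card (n := 1) (G := zpowers (⟨⟨y₁, hy₁E⟩, hyN⟩ : ↥N))
    (by rw [Nat.card_zpowers, Subgroup.orderOf_mk, Subgroup.orderOf_mk, hy₁o, pow_one]) :
      IsPGroup p _).exists_le_sylow
  have htop := Sylow.normalizer_sup_eq_top Q
  set Qe : Subgroup ↥E := (Q : Subgroup ↥N).map N.subtype with hQe
  have hsurj : Function.Surjective f := by
    intro z
    have hb : Function.Bijective (f.domRestrict (P : Subgroup ↥E)) :=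
      (MonoidHom.transferSylow_domRestrict_eq_pow P hNC).symm ▸
        (P.2.powEquiv' P.not_dvd_index).bijective
    obtain ⟨x, hx⟩ := hb.2 z
    exact ⟨x, hx⟩
  obtain ⟨m, hm⟩ := hsurj ⟨⟨c, hcE⟩, hPc ▸ mem_zpowers _⟩
  have hmem : m ∈ normalizer (Qe : Set ↥E) ⊔ N := htop ▸ mem_top m
  rw [← SetLike.mem_coe, mul_normal] at hmem
  obtain ⟨a, ha, b, hb, rfl⟩ := hmem
  rw [map_mul, MonoidHom.mem_ker.mp hb, mul_one] at hm
  have hdiv : 2 ^ D.n ∣ orderOf a := by
    rw [← hco, show orderOf c = orderOf (f a) by rw [hm, Subgroup.orderOf_mk, Subgroup.orderOf_mk]]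
    exact orderOf_map_dvd f a
  obtain ⟨e, he⟩ := hdiv
  set a' := a ^ e with ha'
  have he0 : e ≠ 0 := fun e0 => (orderOf_pos a).ne' (by rw [he, e0, mul_zero])
  have ha'o : orderOf a' = 2 ^ D.n := by
    rw [ha', orderOf_pow_of_dvd he0 ⟨2 ^ D.n, by rw [he, mul_comm]⟩, he,
      Nat.mul_div_cancel _ (Nat.pos_of_ne_zero he0)]
  -- `a'` normalises the Sylow subgroup `Qe`, hence `⟨y₁⟩`
  set Qg : Subgroup G := Qe.map E.subtype with hQg
  have hQgp : IsPGroup p Qg := (Q.2.map _).map _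
  have hQgc := isCyclic_of_odd_pGroup D.hyp.odd hp2 hQgp
  have hy₁Q : y₁ ∈ Qg := ⟨⟨y₁, hy₁E⟩, ⟨⟨⟨y₁, hy₁E⟩, hyN⟩, hQ (mem_zpowers _), rfl⟩, rfl⟩
  have ha'Q : (a' : G) * y₁ * (a' : G)⁻¹ ∈ Qg := by
    have h1 : a' * ⟨y₁, hy₁E⟩ * a'⁻¹ ∈ Qe := by
      refine (mem_normalizer_iff.mp (pow_mem ha e) _).mp ?_
      exact ⟨⟨⟨y₁, hy₁E⟩, hyN⟩, hQ (mem_zpowers _), rfl⟩
    exact ⟨_, h1, rfl⟩
  have hnorm : (a' : G) ∈ normalizer (zpowers y₁ : Set G) := by
    refine mem_normalizer_zpowers' ?_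
    have := cyclic_eq_of_card (A := ↥Qg) (zpowers ⟨_, ha'Q⟩) (zpowers ⟨y₁, hy₁Q⟩)
      (by rw [Nat.card_zpowers, Nat.card_zpowers, Subgroup.orderOf_mk, Subgroup.orderOf_mk,
        orderOf_conj'])
    obtain ⟨i, hi⟩ := mem_zpowers_iff.mp
      (show (⟨_, ha'Q⟩ : ↥Qg) ∈ zpowers ⟨y₁, hy₁Q⟩ from this ▸ mem_zpowers _)
    exact mem_zpowers_iff.mpr ⟨i, by simpa using congrArg Subtype.val hi⟩
  refine no_eight M hy₀W hy₀1 (g⁻¹ * (a' : G) * g) (mem_normalizer_zpowers' ?_) ?_
  · obtain ⟨i, hi⟩ := mem_zpowers_iff.mp ((mem_normalizer_iff.mp hnorm y₁).mp (mem_zpowers y₁))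
    refine mem_zpowers_iff.mpr ⟨i, ?_⟩
    rw [hy₁, conj_zpow] at hi
    calc y₀ ^ i = g⁻¹ * (g * y₀ ^ i * g⁻¹) * g := by group
      _ = g⁻¹ * ((a' : G) * (g * y₀ * g⁻¹) * (a' : G)⁻¹) * g := by rw [hi]
      _ = g⁻¹ * (a' : G) * g * y₀ * (g⁻¹ * (a' : G) * g)⁻¹ := by group
  · have := orderOf_conj' g⁻¹ (a' : G)
    rw [inv_inv] at this
    rw [this, Subgroup.orderOf_coe, ha'o]

/-- If `y₃` is fixed by the normaliser of `⟨y₃⟩` in `C(d)`, then `C(d)` is solvable. -/
theorem solvable_cd {d y₃ : G} (hd : d ∈ M.W) (hd1 : d ≠ 1) (hy : y₃ ∈ M.W)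
    (hyo : orderOf y₃ = 3)
    (hfix : ∀ g ∈ normalizer (zpowers y₃ : Set G), Commute g d → Commute g y₃) :
    Group.IsSolvable ↥(centralizer ({d} : Set G)) := by
  by_contra hns
  have : Fact (Nat.Prime 3) := ⟨Nat.prime_three⟩
  set E := centralizer ({d} : Set G) with hE
  have hyE : y₃ ∈ E := mem_centralizer_singleton_iff.mpr (W_comm M hy hd)
  obtain ⟨P, hP⟩ := (IsPGroup.of_card (n := 1) (G := zpowers (⟨y₃, hyE⟩ : ↥E))
    (by rw [Nat.card_zpowers, Subgroup.orderOf_mk, hyo, pow_one]) : IsPGroup 3 _).exists_le_sylow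
  have hcycG := isCyclic_of_odd_pGroup D.hyp.odd (p := 3) (by norm_num)
    (A := (P : Subgroup ↥E).map E.subtype) (P.2.map _)
  have hcyc : IsCyclic ↥(P : Subgroup ↥E) := isCyclic_of_injective
    ((P : Subgroup ↥E).equivMapOfInjective E.subtype E.subtype_injective).toMonoidHom
    (MulEquiv.injective _)
  have hy1 : (⟨y₃, hyE⟩ : ↥E) ≠ 1 := fun e => by
    have : y₃ = 1 := congrArg Subtype.val e
    rw [this, orderOf_one] at hyo
    omega
  have hNC : normalizer ((P : Subgroup ↥E) : Set ↥E) ≤ centralizer ((P : Subgroup ↥E) : Set ↥E) := by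
    intro n hn
    refine H77.mem_centralizer_of_cyclic_sylow P (hP (mem_zpowers _)) hy1 hn ?_
    have hz : zpowers (n * ⟨y₃, hyE⟩ * n⁻¹) = zpowers (⟨y₃, hyE⟩ : ↥E) :=
      zpowers_eq_of_sylow P ((mem_normalizer_iff.mp hn _).mp (hP (mem_zpowers _)))
        (hP (mem_zpowers _)) (orderOf_conj' _ _)
    obtain ⟨i, hi⟩ := mem_zpowers_iff.mp
      (show n * ⟨y₃, hyE⟩ * n⁻¹ ∈ zpowers (⟨y₃, hyE⟩ : ↥E) from hz ▸ mem_zpowers _)
    have hn' : (n : G) ∈ normalizer (zpowers y₃ : Set G) := by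
      refine mem_normalizer_zpowers' (mem_zpowers_iff.mpr ⟨i, ?_⟩)
      simpa using congrArg Subtype.val hi
    exact Subtype.ext (conj_eq_of_commute' (hfix _ hn' (mem_centralizer_singleton_iff.mp n.2)))
  set f := MonoidHom.transferSylow P hNC with hf
  set N : Subgroup G := f.ker.map E.subtype with hN
  have hNne : N ≠ ⊤ := fun e => cent_ne_top D.hyp hd1 (top_unique (e ▸ map_subtype_le _))
  have hNs : ¬ Group.IsSolvable ↥N := by
    intro h
    have h' : Group.IsSolvable ↥f.ker := Group.isSolvable_of_isSolvable_injective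
      (f := (f.ker.equivMapOfInjective E.subtype E.subtype_injective).toMonoidHom)
      (MulEquiv.injective _)
    have hP : Group.IsSolvable ↥(P : Subgroup ↥E) :=
      letI : CommGroup ↥(P : Subgroup ↥E) := IsCyclic.commGroup
      inferInstance
    exact hns (Group.isSolvable_of_ker_le_range f.ker.subtype f (by rw [range_subtype]))
  have h3 := not_three_dvd_nonsolvable D.hyp hNne hNs
  rw [hN, card_map_of_injective E.subtype_injective] at h3
  exact MonoidHom.not_dvd_card_ker_transferSylow P hNC h3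

theorem odd_ctd_mem {d : G} (hd : d ∈ M.W) (hd1 : d ≠ 1) {g : G}
    (hg : g ∈ centralizer ({D.t, d} : Set G)) (ho : Odd (orderOf g)) :
    ∃ o ∈ D.O, ∃ w ∈ M.W, g = o * w := by
  classical
  -- `O × W` is a normal subgroup of index four of `C(t) ∩ C(d)`
  set C := centralizer ({D.t, d} : Set G) with hC
  have hWC : M.W ≤ C := by
    intro w hw
    rw [hC, mem_centralizer_iff]
    rintro z (rfl | rfl)
    · exact (mem_centralizer_singleton_iff.mp (D.K_le (M.W_le hw))).symm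
    · exact W_comm M hd hw
  have hOC : D.O ≤ C := by
    intro o ho'
    rw [hC, mem_centralizer_iff]
    rintro z (rfl | rfl)
    · exact (mem_centralizer_singleton_iff.mp (D.O_le ho')).symm
    · exact M.W_O _ hd o ho'
  have hOn : M.W ≤ normalizer (D.O : Set G) := fun w hw => D.O_norm (D.K_le (M.W_le hw))
  have hUC : U D ≤ C := by
    intro u hu
    rw [hC, mem_centralizer_iff]
    rintro z (rfl | rfl)
    · exact mem_centralizer_iff.mp (U_le_cty (D := D) hu) _ (Set.mem_insert _ _)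
    · exact (commute_U_W M hu hd).eq.symm
  set A := D.O ⊔ M.W with hA
  have hAC : A ≤ C := sup_le hOC hWC
  have hcoA : (Nat.card D.O).Coprime M.T := by
    refine Nat.coprime_of_dvd fun q hq h1 h3 => ?_
    have hdvd : M.T ∣ M.r ^ 2 - 1 := by
      have hz : (M.T : ℤ) ∣ (M.r : ℤ) ^ 2 - 1 := by
        refine ⟨2 * ((M.r : ℤ) + M.η), ?_⟩
        have h := M.hT
        rcases M.hη with e | e <;> rw [e] at h ⊢
        · linear_combination ((M.r : ℤ) + 1) * h
        · linear_combination ((M.r : ℤ) - 1) * h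
      have h1r : 1 ≤ M.r ^ 2 := Nat.one_le_pow _ _ M.hr.pos
      exact_mod_cast (show ((M.T : ℕ) : ℤ) ∣ ((M.r ^ 2 - 1 : ℕ) : ℤ) by push_cast [h1r]; exact hz)
    exact hq.one_lt.ne' (Nat.eq_one_of_dvd_coprimes M.r_O
      ((h3.trans hdvd).mul_left _) h1)
  have hAmem : ∀ a ∈ A, ∃ o ∈ D.O, ∃ w ∈ M.W, a = o * w := by
    intro a ha
    rw [hA, sup_comm, ← SetLike.mem_coe, coe_mul_of_left_le_normalizer_right _ _ hOn] at ha
    obtain ⟨w, hw, o, ho', rfl⟩ := ha
    exact ⟨o, ho', w, hw, (M.W_O w hw o ho').eq⟩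
  have hAcard : Nat.card A = Nat.card D.O * M.T := by
    have hinj : Function.Injective (fun z : ↥D.O × ↥M.W =>
        (⟨(z.1 : G) * z.2, mul_mem (mem_sup_left z.1.2) (mem_sup_right z.2.2)⟩ : ↥A)) := by
      intro a b e
      have e' : (a.1 : G) * a.2 = b.1 * b.2 := congrArg Subtype.val e
      have h1 : (b.1 : G)⁻¹ * a.1 = b.2 * (a.2 : G)⁻¹ := by
        calc (b.1 : G)⁻¹ * a.1 = (b.1 : G)⁻¹ * (a.1 * a.2) * (a.2 : G)⁻¹ := by group
          _ = b.2 * (a.2 : G)⁻¹ := by rw [e']; group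
      have h2 : (b.1 : G)⁻¹ * a.1 = 1 := orderOf_eq_one_iff.mp (Nat.eq_one_of_dvd_coprimes hcoA
        (Subgroup.orderOf_dvd_natCard _ (mul_mem (inv_mem b.1.2) a.1.2))
        (M.card_W ▸ h1 ▸ Subgroup.orderOf_dvd_natCard _ (mul_mem b.2.2 (inv_mem a.2.2))))
      have h3 : (a.1 : G) = b.1 := (inv_mul_eq_one.mp h2).symm
      exact Prod.ext (Subtype.ext h3) (Subtype.ext (mul_left_cancel (h3 ▸ e' : (b.1 : G) * a.2 = _)))
    have hsurj : Function.Surjective (fun z : ↥D.O × ↥M.W =>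
        (⟨(z.1 : G) * z.2, mul_mem (mem_sup_left z.1.2) (mem_sup_right z.2.2)⟩ : ↥A)) := by
      rintro ⟨a, ha⟩
      obtain ⟨o, ho', w, hw, rfl⟩ := hAmem a ha
      exact ⟨(⟨o, ho'⟩, ⟨w, hw⟩), rfl⟩
    rw [← Nat.card_eq_of_bijective _ ⟨hinj, hsurj⟩, Nat.card_prod, M.card_W]
  have hsup : U D ⊔ A = C := by
    refine eq_of_le_of_card_ge (sup_le hUC hAC) ?_
    have h1 : 4 ∣ Nat.card ↥(U D ⊔ A) := card_U D ▸ card_dvd_of_le le_sup_left
    have h2 : Nat.card D.O * M.T ∣ Nat.card ↥(U D ⊔ A) := hAcard ▸ card_dvd_of_le le_sup_right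
    have hco : (4).Coprime (Nat.card D.O * M.T) := by
      rw [show (4 : ℕ) = 2 ^ 2 by norm_num]
      exact Nat.Coprime.pow_left _ (D.O_odd.mul M.T_odd).coprime_two_left
    rw [M.cent_W d hd hd1, show 4 * M.T * Nat.card D.O = 4 * (Nat.card D.O * M.T) by ring]
    exact Nat.le_of_dvd Nat.card_pos (hco.mul_dvd_of_dvd_of_dvd h1 h2)
  have hnA : C ≤ normalizer (A : Set G) := by
    rw [← hsup]
    refine sup_le (fun u hu => ?_) le_normalizer
    have h1 : ∀ a ∈ A, u * a * u⁻¹ ∈ A := by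
      intro a ha
      obtain ⟨o, ho', w, hw, rfl⟩ := hAmem a ha
      rw [show u * (o * w) * u⁻¹ = (u * o * u⁻¹) * (u * w * u⁻¹) by group,
        conj_eq_of_commute' (commute_U_W M hu hw)]
      exact mul_mem (mem_sup_left ((mem_normalizer_iff.mp
        (D.O_norm ((U_le_cty (D := D)).trans (centralizer_le (by simp)) hu)) o).mp ho'))
        (mem_sup_right hw)
    have hu2 := inv_eq_of_mul_eq_one_right (U_exp D hu)
    rw [mem_normalizer_iff]
    refine fun a => ⟨h1 a, fun ha => ?_⟩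
    have h2 := h1 _ ha
    rw [show u * (u * a * u⁻¹) * u⁻¹ = (u * u) * a * (u * u)⁻¹ by group, U_exp D hu] at h2
    simpa using h2
  have hnorm : (A.subgroupOf C).Normal := normal_subgroupOf_of_le_normalizer hnA
  have hidx : (A.subgroupOf C).index = 4 := by
    have h := card_mul_index (A.subgroupOf C)
    rw [Nat.card_congr (subgroupOfEquivOfLe hAC).toEquiv, hAcard, M.cent_W d hd hd1,
      show 4 * M.T * Nat.card D.O = Nat.card D.O * M.T * 4 by ring] at h
    exact Nat.eq_of_mul_eq_mul_left (Nat.pos_of_ne_zero (hAcard ▸ Nat.card_pos.ne')) h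
  have h4 := pow_index_mem (A.subgroupOf C) ⟨g, hg⟩
  rw [hidx, mem_subgroupOf] at h4
  refine hAmem g ?_
  obtain ⟨k, hk⟩ := exists_pow_eq_self_of_coprime (x := g) (n := 4)
    (by rw [show (4 : ℕ) = 2 ^ 2 by norm_num]; exact Nat.Coprime.pow_left _ ho.coprime_two_left)
  rw [← hk]
  exact pow_mem h4 k

/-- The structure of the centraliser of an element of prime order of `W`. -/
theorem cd_struct {d : G} (hd : d ∈ M.W) (hd1 : d ≠ 1)
    (hsol : Group.IsSolvable ↥(centralizer ({d} : Set G))) :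
    D.O = ⊥ ∧ Nat.card (centralizer ({d} : Set G)) = 12 * M.T ∧
    (∀ g ∈ centralizer ({d} : Set G), ∀ w ∈ M.W, Commute g w) ∧
    (∀ g ∈ centralizer ({d} : Set G), g ∈ normalizer (U D : Set G)) ∧
    (∀ g ∈ centralizer ({d} : Set G), g * g = 1 → g ∈ U D) := by
  classical
  have : Fact (Nat.Prime 2) := ⟨Nat.prime_two⟩
  set E := centralizer ({d} : Set G) with hE
  have hUE : U D ≤ E := U_le_cd M hd
  obtain ⟨P, hP⟩ := ((U_pgroup (D := D)).of_equiv (subgroupOfEquivOfLe hUE).symm).exists_le_sylow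
  have hPU : (P : Subgroup ↥E).map E.subtype = U D := by
    refine two_sub_cd M hd hd1 (P.2.map _) ?_ (map_subtype_le _)
    intro u hu
    exact ⟨⟨u, hUE hu⟩, hP hu, rfl⟩
  have hUab : ∀ a ∈ U D, ∀ b ∈ U D, Commute a b := by
    intro a ha b hb
    have h := U_exp D (mul_mem ha hb)
    show a * b = b * a
    calc a * b = (a * b)⁻¹ := (inv_eq_of_mul_eq_one_right h).symm
      _ = b * a := by
        rw [mul_inv_rev, inv_eq_of_mul_eq_one_right (U_exp D ha),
          inv_eq_of_mul_eq_one_right (U_exp D hb)]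
  have hPab : IsMulCommutative ↥(P : Subgroup ↥E) := ⟨⟨fun a b => Subtype.ext (Subtype.ext
    (hUab _ (hPU ▸ mem_map_of_mem E.subtype a.2) _ (hPU ▸ mem_map_of_mem E.subtype b.2)).eq)⟩⟩
  have hfrat := H59.OneComp.normalizer_sup_core P hPab
  set K₀ : Subgroup G := (Cfsg.pPrimeCore 2 ↥E).map E.subtype with hK
  haveI : (Cfsg.pPrimeCore 2 ↥E).Normal := H1.pPrimeCore_normal' 2 ↥E
  have hKodd : Odd (Nat.card K₀) := by
    rw [hK, card_map_of_injective E.subtype_injective]
    exact (Nat.coprime_two_left).mp (H1.card_pPrimeCore_coprime 2 ↥E).symm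
  have hKE : K₀ ≤ E := map_subtype_le _
  have hKn : ∀ g ∈ E, ∀ a ∈ K₀, g * a * g⁻¹ ∈ K₀ := by
    rintro g hg _ ⟨a, ha, rfl⟩
    exact ⟨⟨g, hg⟩ * a * ⟨g, hg⟩⁻¹, Normal.conj_mem inferInstance a ha _, rfl⟩
  have hKodd' : ∀ a ∈ K₀, Odd (orderOf a) := fun a ha =>
    hKodd.of_dvd_nat (Subgroup.orderOf_dvd_natCard _ ha)
  obtain ⟨h, h1, h2, h3, hW, -⟩ := exists_h M
  have hhE : h ∈ E := mem_centralizer_singleton_iff.mpr (hW d hd)
  -- no nontrivial element of `O` lies in `K₀`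
  have hKO : ∀ o ∈ D.O, o ∈ K₀ → o = 1 := by
    intro o ho hoK
    by_contra hne
    set q := (orderOf o).minFac with hq
    have hqp : q.Prime := Nat.minFac_prime fun e => hne (orderOf_eq_one_iff.mp e)
    have : Fact q.Prime := ⟨hqp⟩
    set a := o ^ (orderOf o / q) with ha
    have haK : a ∈ K₀ := pow_mem hoK _
    have hao : orderOf a = q := by
      rw [ha, orderOf_pow_of_dvd (Nat.div_pos (Nat.minFac_le (orderOf_pos o)) hqp.pos).ne'
        (Nat.div_dvd_of_dvd (Nat.minFac_dvd _))]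
      exact Nat.div_div_self (Nat.minFac_dvd _) (orderOf_pos o).ne'
    have hq2 : q ≠ 2 := fun e => (hKodd' o hoK).not_two_dvd_nat (e ▸ Nat.minFac_dvd _)
    have hat : D.t * a * D.t⁻¹ = a :=
      conj_eq_of_commute' (mem_centralizer_singleton_iff.mp (D.O_le (pow_mem ho _))).symm
    set b := h * a * h⁻¹ with hb
    have hbK : b ∈ K₀ := hKn h hhE a haK
    have hbo : orderOf b = q := by rw [hb, orderOf_conj', hao]
    have hbt : D.t * b * D.t⁻¹ = b⁻¹ := by
      have := D.y_inv a (pow_mem ho _)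
      calc D.t * b * D.t⁻¹ = (h * (D.y : G) * h⁻¹) * (h * a * h⁻¹) * (h * (D.y : G) * h⁻¹)⁻¹ := by
            rw [h3, hb]
        _ = h * ((D.y : G) * a * (D.y : G)⁻¹) * h⁻¹ := by group
        _ = b⁻¹ := by rw [this, hb]; group
    have htE : D.t ∈ E := hUE (t_mem_U D)
    let φ : ↥K₀ →* ↥K₀ :=
      { toFun := fun z => ⟨D.t * z * D.t⁻¹, hKn _ htE _ z.2⟩
        map_one' := Subtype.ext (by simp)
        map_mul' := fun z z' => Subtype.ext (by simp [mul_assoc]) }
    set a' : ↥K₀ := ⟨a, haK⟩ with ha'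
    set b' : ↥K₀ := ⟨b, hbK⟩ with hb'
    have hφa : φ a' = a' := Subtype.ext hat
    have hφb : φ b' = b'⁻¹ := Subtype.ext hbt
    have ha'o : orderOf a' = q := by rw [ha', Subgroup.orderOf_mk, hao]
    have hb'o : orderOf b' = q := by rw [hb', Subgroup.orderOf_mk, hbo]
    have := isZGroup_of_odd D.hyp.odd hKodd
    have hqN : ∀ z : ↥K₀, orderOf z = q → z * z ≠ 1 := fun z hz e => hq2
      ((Nat.prime_dvd_prime_iff_eq hqp Nat.prime_two).mp
        (hz ▸ orderOf_dvd_of_pow_eq_one (by rwa [sq])))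
    by_cases hqc : q ∣ Nat.card (commutator ↥K₀)
    · -- both elements lie in the cyclic commutator subgroup
      have hndvd : ¬ q ∣ (commutator ↥K₀).index := fun hc =>
        hqp.one_lt.ne' (Nat.eq_one_of_dvd_coprimes (IsZGroup.coprime_commutator_index ↥K₀) hqc hc)
      have hin : ∀ z : ↥K₀, orderOf z = q → z ∈ commutator ↥K₀ := by
        intro z hz
        rw [← QuotientGroup.eq_one_iff, ← orderOf_eq_one_iff]
        refine Nat.eq_one_of_dvd_coprimes ((hqp.coprime_iff_not_dvd).mpr hndvd) ?_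
          (index_eq_card (H := commutator ↥K₀) ▸ orderOf_dvd_natCard _)
        exact hz ▸ orderOf_map_dvd (QuotientGroup.mk' _) z
      have := IsZGroup.isCyclic_commutator ↥K₀
      have heq := cyclic_eq_of_card (A := ↥(commutator ↥K₀)) (zpowers ⟨a', hin a' ha'o⟩)
        (zpowers ⟨b', hin b' hb'o⟩)
        (by simp only [Nat.card_zpowers, Subgroup.orderOf_mk, ha'o, hb'o])
      obtain ⟨i, hi⟩ := mem_zpowers_iff.mp (show (⟨b', hin b' hb'o⟩ : ↥(commutator ↥K₀)) ∈
        zpowers ⟨a', hin a' ha'o⟩ from heq ▸ mem_zpowers _)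
      have hi' : a' ^ i = b' := by simpa using congrArg Subtype.val hi
      have : φ b' = b' := by rw [← hi', map_zpow, hφa]
      rw [hφb] at this
      exact hqN b' hb'o (inv_eq_iff_mul_eq_one.mp this)
    · -- both elements map injectively into the cyclic abelianisation
      have hnot : ∀ z : ↥K₀, orderOf z = q → orderOf (Abelianization.of z) = q := by
        intro z hz
        rcases (Nat.dvd_prime hqp).mp (hz ▸ orderOf_map_dvd Abelianization.of z) with e | e
        · exact absurd (hz ▸ Subgroup.orderOf_dvd_natCard _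
            ((Abelianization.ker_of ↥K₀) ▸ (MonoidHom.mem_ker.mpr (orderOf_eq_one_iff.mp e)))) hqc
        · exact e
      have heq := cyclic_eq_of_card (A := Abelianization ↥K₀) (zpowers (Abelianization.of a'))
        (zpowers (Abelianization.of b'))
        (by rw [Nat.card_zpowers, Nat.card_zpowers, hnot a' ha'o, hnot b' hb'o])
      obtain ⟨i, hi⟩ := mem_zpowers_iff.mp (show Abelianization.of b' ∈
        zpowers (Abelianization.of a') from heq ▸ mem_zpowers _)
      have e1 : Abelianization.map φ (Abelianization.of b') = Abelianization.of b' := by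
        rw [← hi, map_zpow, Abelianization.map_of, hφa]
      rw [Abelianization.map_of, hφb, map_inv, inv_eq_iff_mul_eq_one, ← sq] at e1
      have := orderOf_dvd_of_pow_eq_one e1
      rw [hnot b' hb'o] at this
      exact hq2 ((Nat.prime_dvd_prime_iff_eq hqp Nat.prime_two).mp this)
  -- the fixed points of the involutions of `U` on `K₀`
  have hfix : ∀ g ∈ K₀, Commute g D.t → g ∈ M.W := by
    intro g hg hgt
    have hgC : g ∈ centralizer ({D.t, d} : Set G) := by
      rw [mem_centralizer_iff]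
      rintro z (rfl | rfl)
      · exact hgt.eq.symm
      · exact (mem_centralizer_singleton_iff.mp (hKE hg)).symm
    obtain ⟨o, ho, w, hw, rfl⟩ := odd_ctd_mem M hd hd1 hgC (hKodd' g hg)
    have h2' : (D.y : G) * (o * w) * (D.y : G)⁻¹ ∈ K₀ := hKn _ (hUE (y_mem_U D)) _ hg
    rw [show (D.y : G) * (o * w) * (D.y : G)⁻¹ = ((D.y : G) * o * (D.y : G)⁻¹) *
      ((D.y : G) * w * (D.y : G)⁻¹) by group, D.y_inv o ho,
      conj_eq_of_commute' (M.W_ty w hw)] at h2'
    have hoo : o * o ∈ K₀ := by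
      have := mul_mem hg (inv_mem h2')
      rwa [show o * w * (o⁻¹ * w)⁻¹ = o * o by group] at this
    obtain ⟨k, hk⟩ := exists_pow_eq_self_of_coprime (x := o) (n := 2)
      (D.O_odd.of_dvd_nat (Subgroup.orderOf_dvd_natCard _ ho)).coprime_two_left
    have : o = 1 := hKO o ho (hk ▸ pow_mem (by rwa [sq]) k)
    rw [this, one_mul]
    exact hw
  have hfix' : ∀ m : G, m ∈ E → (∀ w ∈ M.W, m * w = w * m) →
      ∀ g ∈ K₀, Commute g (m * D.t * m⁻¹) → g ∈ M.W := by
    intro m hm hmW g hg hgt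
    have h1' : m⁻¹ * g * m ∈ K₀ := by simpa using hKn m⁻¹ (inv_mem hm) g hg
    have h2' : Commute (m⁻¹ * g * m) D.t := by
      show m⁻¹ * g * m * D.t = D.t * (m⁻¹ * g * m)
      calc m⁻¹ * g * m * D.t = m⁻¹ * (g * (m * D.t * m⁻¹)) * m := by group
        _ = m⁻¹ * ((m * D.t * m⁻¹) * g) * m := by rw [hgt.eq]
        _ = D.t * (m⁻¹ * g * m) := by group
    have h3' := hfix _ h1' h2'
    have : m * (m⁻¹ * g * m) * m⁻¹ = m⁻¹ * g * m := by rw [hmW _ h3', mul_inv_cancel_right]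
    rw [show m * (m⁻¹ * g * m) * m⁻¹ = g by group] at this
    rwa [← this] at h3'
  have hh2 : h * h * D.t * (h * h)⁻¹ = (D.y : G) := by
    rw [show h * h * D.t * (h * h)⁻¹ = h * (h * D.t * h⁻¹) * h⁻¹ by group, h1, h2]
  have hUn : U D ≤ normalizer (K₀ : Set G) := by
    intro u hu
    rw [mem_normalizer_iff]
    refine fun a => ⟨hKn u (hUE hu) a, fun ha => ?_⟩
    have h2' := hKn u⁻¹ (inv_mem (hUE hu)) _ ha
    simpa [mul_assoc] using h2'
  have hKW : K₀ ≤ M.W := by
    haveI : IsMulCommutative ↥(U D) := ⟨⟨fun a b => Subtype.ext (hUab _ a.2 _ b.2).eq⟩⟩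
    refine H79.le_of_centralizers_le (p := 2) (A := U D)
      (fun a ha => by rw [sq, U_exp D ha]) ?_ hUn hKodd.coprime_two_right ?_
    · intro hc
      have hh := hc.exponent_eq_card
      rw [card_U D] at hh
      have : Monoid.exponent ↥(U D) ∣ 2 := Monoid.exponent_dvd_of_forall_pow_eq_one
        fun z => Subtype.ext (by simp [sq, U_exp D z.2])
      rw [hh] at this
      norm_num at this
    · intro z hz hz1 g hg
      have hgz : Commute g z := mem_centralizer_singleton_iff.mp hg.2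
      rcases hz with rfl | rfl | rfl | rfl
      · exact absurd rfl hz1
      · exact hfix g hg.1 hgz
      · exact hfix' (h * h) (mul_mem hhE hhE)
          (fun w hw => ((show Commute h w from hW w hw).mul_left (hW w hw)).eq) g hg.1 (hh2 ▸ hgz)
      · exact hfix' h hhE hW g hg.1 (h1 ▸ hgz)
  have hEU : ∀ g ∈ E, g ∈ normalizer (U D : Set G) := by
    intro g hg
    have hm : (⟨g, hg⟩ : ↥E) ∈ normalizer ((P : Subgroup ↥E) : Set ↥E) ⊔ Cfsg.pPrimeCore 2 ↥E :=
      hfrat ▸ mem_top _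
    rw [← SetLike.mem_coe, mul_normal] at hm
    obtain ⟨a, ha, b, hb, hab⟩ := hm
    have hg' : g = (a : G) * b := (congrArg Subtype.val hab).symm
    rw [hg']
    refine mul_mem ?_ ?_
    · have := le_normalizer_map E.subtype (mem_map_of_mem E.subtype ha)
      rwa [hPU] at this
    · have hbW : (b : G) ∈ M.W := hKW ⟨b, hb, rfl⟩
      rw [mem_normalizer_iff]
      intro u
      constructor
      · intro hu
        rwa [conj_eq_of_commute' (commute_U_W M hu hbW).symm]
      · intro hu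
        have := conj_eq_of_commute' (commute_U_W M hu hbW).symm.inv_left
        rw [show (b : G)⁻¹ * ((b : G) * u * (b : G)⁻¹) * (b : G)⁻¹⁻¹ = u by group] at this
        rwa [← this] at hu
  have hO : D.O = ⊥ := by
    refine eq_bot_iff.mpr fun o ho => ?_
    have hoE : o ∈ E := mem_centralizer_singleton_iff.mpr (M.W_O d hd o ho).eq.symm
    have h1' : o * (D.y : G) * o⁻¹ ∈ U D := (mem_normalizer_iff.mp (hEU o hoE) _).mp (y_mem_U D)
    have h2' : o * o ∈ U D := by
      have := mul_mem h1' (y_mem_U D)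
      rw [← inv_inv o] at this
      rw [show o * o = (o⁻¹)⁻¹ * (D.y : G) * (o⁻¹)⁻¹⁻¹ * (D.y : G) by
        have hy := D.y_inv o⁻¹ (inv_mem ho)
        rw [inv_inv, D.y_inv'] at hy
        calc o * o = o * ((D.y : G) * o⁻¹ * (D.y : G)) := by rw [hy]
          _ = _ := by group]
      exact this
    have h3' : o ^ 4 = 1 := by
      rw [show o ^ 4 = (o * o) * (o * o) by simp only [pow_succ, pow_zero, one_mul, mul_assoc]]
      exact U_exp D h2'
    rw [mem_bot, ← orderOf_eq_one_iff]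
    refine Nat.eq_one_of_dvd_coprimes (a := Nat.card D.O) (b := 2 ^ 2)
      ((D.O_odd.coprime_two_right).pow_right 2) (Subgroup.orderOf_dvd_natCard _ ho)
      (orderOf_dvd_of_pow_eq_one (by norm_num; exact h3'))
  set C := centralizer ({D.t, d} : Set G) with hC
  have hCE : C ≤ E := centralizer_le (by simp)
  have hcardC : Nat.card C = 4 * M.T := by
    rw [hC, M.cent_W d hd hd1, hO, card_bot, mul_one]
  have hCty : C = centralizer ({D.t, (D.y : G)} : Set G) := by
    refine (eq_of_le_of_card_ge ?_ (by rw [hcardC, M.card_cty])).symm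
    intro g hg
    obtain ⟨u, hu, w, hw, rfl⟩ := cty_decomp M hg
    rw [hC, mem_centralizer_iff]
    rintro z (rfl | rfl)
    · exact mem_centralizer_iff.mp hg _ (Set.mem_insert _ _)
    · exact ((commute_U_W M hu hd).mul_left (W_comm M hw hd)).eq.symm
  have hCW : ∀ g ∈ C, ∀ w ∈ M.W, Commute g w := by
    intro g hg w hw
    obtain ⟨u, hu, w', hw', rfl⟩ := cty_decomp M (hCty ▸ hg)
    exact (commute_U_W M hu hw).mul_left (W_comm M hw' hw)
  -- `C(d)` is the union of three cosets of `C`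
  have hconj : ∀ i : Fin 3, h ^ (i : ℕ) * D.t * (h ^ (i : ℕ))⁻¹
      = ![D.t, D.t * (D.y : G), (D.y : G)] i := by
    intro i
    fin_cases i
    · simp
    · simpa using h1
    · simpa [sq] using hh2
  have hinjv : Function.Injective ![D.t, D.t * (D.y : G), (D.y : G)] := by
    intro i j
    have a3 := D.t_ne_y
    have a4 : D.t * (D.y : G) ≠ D.t := fun h => D.y_ne_one (mul_eq_left.mp h)
    have a5 : D.t * (D.y : G) ≠ (D.y : G) := fun h => D.t_ne_one (mul_eq_right.mp h)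
    fin_cases i <;> fin_cases j <;> simp [a3, a4, a5, Ne.symm a3, Ne.symm a4, Ne.symm a5]
  let Φ : Fin 3 × ↥C → ↥E := fun z => ⟨h ^ (z.1 : ℕ) * z.2, mul_mem (pow_mem hhE _) (hCE z.2.2)⟩
  have hconjC : ∀ c ∈ C, ∀ i : ℕ,
      h ^ i * c * D.t * (h ^ i * c)⁻¹ = h ^ i * D.t * (h ^ i)⁻¹ := by
    intro c hc i
    have : Commute c D.t := (mem_centralizer_iff.mp hc _ (Set.mem_insert _ _)).symm
    rw [show h ^ i * c * D.t * (h ^ i * c)⁻¹ = h ^ i * (c * D.t * c⁻¹) * (h ^ i)⁻¹ by group,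
      conj_eq_of_commute' this]
  have hΦ : Function.Bijective Φ := by
    refine ⟨?_, ?_⟩
    · rintro ⟨i, c⟩ ⟨j, c'⟩ e
      have e' : h ^ (i : ℕ) * c = h ^ (j : ℕ) * c' := congrArg Subtype.val e
      have : i = j := hinjv (by rw [← hconj, ← hconj, ← hconjC c c.2, ← hconjC c' c'.2, e'])
      subst this
      exact Prod.ext rfl (Subtype.ext (mul_left_cancel e'))
    · rintro ⟨g, hg⟩
      have hgt := (mem_normalizer_iff.mp (hEU g hg) _).mp (t_mem_U D)
      obtain ⟨i, hi⟩ : ∃ i : Fin 3, g * D.t * g⁻¹ = h ^ (i : ℕ) * D.t * (h ^ (i : ℕ))⁻¹ := by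
        simp only [hconj]
        rcases hgt with e | e | e | e
        · exfalso
          exact D.t_ne_one ((MulAut.conj g).injective (e.trans (map_one (MulAut.conj g)).symm))
        · exact ⟨0, by simpa using e⟩
        · exact ⟨2, by simpa using e⟩
        · exact ⟨1, by simpa using e⟩
      refine ⟨(i, ⟨(h ^ (i : ℕ))⁻¹ * g, ?_⟩), Subtype.ext (by simp [Φ])⟩
      rw [hC, mem_centralizer_iff]
      rintro z (rfl | rfl)
      · have : (h ^ (i : ℕ))⁻¹ * g * D.t * ((h ^ (i : ℕ))⁻¹ * g)⁻¹ = D.t := by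
          rw [show (h ^ (i : ℕ))⁻¹ * g * D.t * ((h ^ (i : ℕ))⁻¹ * g)⁻¹
            = (h ^ (i : ℕ))⁻¹ * (g * D.t * g⁻¹) * (h ^ (i : ℕ)) by group, hi]
          group
        exact (commute_of_conj_eq' this).eq.symm
      · exact ((Commute.pow_left (hW _ hd) _).inv_left.mul_left
          (mem_centralizer_singleton_iff.mp hg)).eq.symm
  refine ⟨hO, ?_, ?_, hEU, ?_⟩
  · rw [← Nat.card_eq_of_bijective Φ hΦ, Nat.card_prod, Nat.card_fin, hcardC]
    ring
  · intro g hg w hw
    obtain ⟨⟨i, c⟩, hic⟩ := hΦ.2 ⟨g, hg⟩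
    rw [show g = h ^ (i : ℕ) * c from (congrArg Subtype.val hic).symm]
    exact (Commute.pow_left (hW w hw) _).mul_left (hCW _ c.2 w hw)
  · intro g hg hgg
    have hz : IsPGroup 2 (zpowers (⟨g, hg⟩ : ↥E)) := by
      obtain ⟨j, -, hj⟩ := (Nat.dvd_prime_pow Nat.prime_two).mp
        (show orderOf (⟨g, hg⟩ : ↥E) ∣ 2 ^ 1 from
          orderOf_dvd_of_pow_eq_one (Subtype.ext (by simpa [sq] using hgg)))
      exact IsPGroup.of_card (n := j) (by rw [Nat.card_zpowers, hj])
    obtain ⟨a, -, ha⟩ := H67.conj_into_sylow P ⊤ _ le_top hz le_top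
    have hmem : (a : G) * g * (a : G)⁻¹ ∈ U D := hPU ▸ ⟨_, ha _ (mem_zpowers _), rfl⟩
    exact (mem_normalizer_iff.mp (hEU _ a.2) g).mpr hmem

/-- The facts on the torus. -/
theorem wfacts : ∃ y₃ : G, y₃ ∈ M.W ∧ orderOf y₃ = 3 ∧
    (∀ g ∈ centralizer ({y₃} : Set G), ∀ w ∈ M.W, Commute g w) ∧
    (∀ g ∈ centralizer ({y₃} : Set G), g ∈ normalizer (U D : Set G)) ∧
    (∀ g ∈ centralizer ({y₃} : Set G), g * g = 1 → g ∈ U D) ∧
    WFacts D M := by
  have : Fact (Nat.Prime 3) := ⟨Nat.prime_three⟩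
  obtain ⟨⟨y₃, hy⟩, hyo⟩ := exists_prime_orderOf_dvd_card' (G := M.W) 3 (M.card_W ▸ T_three M)
  rw [Subgroup.orderOf_mk] at hyo
  have hy1 : y₃ ≠ 1 := fun e => by rw [e, orderOf_one] at hyo; omega
  obtain ⟨hO, hc, hcW, hcU, hcI⟩ :=
    cd_struct M hy hy1 (solvable_cd M hy hy1 hy hyo fun _ _ h => h)
  refine ⟨y₃, hy, hyo, hcW, hcU, hcI, hO, T_three M, fun d hd hdp => ?_,
    fun d hd hdp => no_eight M hd fun e => hdp.ne_one (e ▸ orderOf_one)⟩
  have hd1 : d ≠ 1 := fun e => hdp.ne_one (e ▸ orderOf_one)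
  refine (cd_struct M hd hd1 (solvable_cd M hd hd1 hy hyo fun g hg hgd => ?_)).2.1
  rcases norm_cases M hy hy1 hg with hh | hh
  · exact hh
  · exfalso
    have h1 : Commute (g * D.s) d := hcW _ (mem_centralizer_singleton_iff.mpr hh.eq) d hd
    have h2 : Commute D.s d := by simpa using hgd.inv_left.mul_left h1
    have h3 : d⁻¹ = d := (M.W_inv d hd).symm.trans (conj_eq_of_commute' h2)
    have h4 := W_odd_pow M hd
    exact h4.not_two_dvd_nat (by
      rw [← orderOf_eq_prime (p := 2) (by rw [sq]; exact inv_eq_iff_mul_eq_one.mp h3) hd1])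

end H70.CSy
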